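import Mathlib
import Cfsg.Agent.Lib.PGroups.QuadraticCount
import Cfsg.Agent.Lib.PGroups.Alperin.BoundedOrder

/-!
# Two bounds for 2-groups

* `four_pow_le`: an elementary abelian `r`-group (`r` odd) of rank `m` acting faithfully on an
  abelian 2-group `V` forces `4 ^ m ≤ |V|`
* `card_quotient_le_sq`: a group with squares in a central elementary `E` that contains all its
  involutions satisfies `|W : W ∩ E| ≤ |E| ^ 2`
-/

set_option autoImplicit false
set_option linter.all false

namespace CfsgLib.PGroups.OneClass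

open CfsgLib.PGroups.Alperin
open scoped commutatorElement

universe u

theorem eq_one_of_pow_two_coprime {V : Type*} [Group V] (hV : IsPGroup 2 V) {r : ℕ} (hr : r.Coprime 2)
    {v : V} (hv : v ^ r = 1) : v = 1 := by
  obtain ⟨k, hk⟩ := hV v
  have h := pow_gcd_eq_one.mpr (⟨hv, hk⟩ : v ^ r = 1 ∧ v ^ 2 ^ k = 1)
  rwa [(hr.pow_right k).gcd_eq_one, pow_one] at h

/-- An automorphism of order `r` with a fixed displacement. -/
theorem displacement_eq_one {V : Type*} [CommGroup V] (hV : IsPGroup 2 V) {r : ℕ} (hr : r.Coprime 2)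
    {a : MulAut V} (ha : a ^ r = 1) {v k : V} (hv : a v = v * k) (hk : a k = k) : k = 1 := by
  refine eq_one_of_pow_two_coprime hV hr ?_
  have hrep : ∀ i : ℕ, (a ^ i) v = v * k ^ i := by
    intro i
    induction i with
    | zero => simp
    | succ i ih => rw [pow_succ', MulAut.mul_apply, ih, map_mul, map_pow, hk, hv, mul_assoc, ← pow_succ']
  have h1 := hrep r
  rw [ha, MulAut.one_apply] at h1
  exact mul_left_cancel (h1.symm.trans (mul_one v).symm)

/-- An exponent `r` abelian group of automorphisms without fixed points is cyclic. -/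
theorem card_range_le_of_free {V : Type*} [CommGroup V] [Finite V] (hV : IsPGroup 2 V) [Nontrivial V]
    {A : Type*} [CommGroup A] [Finite A] {r : ℕ} [hr : Fact r.Prime] (hr2 : r ≠ 2)
    (hA : ∀ a : A, a ^ r = 1) (g : A →* MulAut V)
    (hfree : ∀ a v, g a v = v → g a = 1 ∨ v = 1) : Nat.card g.range ≤ r := by
  classical
  have hcop : r.Coprime 2 := (Nat.coprime_primes hr.out Nat.prime_two).mpr hr2
  by_cases htriv : ∀ a, g a = 1
  · have : g.range = ⊥ := by
      rw [eq_bot_iff]
      rintro _ ⟨a, rfl⟩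
      rw [htriv a]; exact one_mem _
    rw [this, Subgroup.card_bot]
    exact hr.out.one_le
  push Not at htriv
  obtain ⟨b, hb⟩ := htriv
  by_contra hlt
  obtain ⟨a, ha⟩ : ∃ a, g a ∉ Subgroup.zpowers (g b) := by
    by_contra hall
    push Not at hall
    refine hlt (le_trans (Subgroup.card_le_of_le (?_ : g.range ≤ Subgroup.zpowers (g b))) ?_)
    · rintro _ ⟨a, rfl⟩; exact hall a
    · rw [Nat.card_zpowers]
      exact Nat.le_of_dvd hr.out.pos (orderOf_dvd_of_pow_eq_one (by rw [← map_pow, hA, map_one]))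
  have hnorm : ∀ c, g c ≠ 1 → ∀ v, ∏ j ∈ Finset.range r, g (c ^ j) v = 1 := by
    intro c hc v
    refine (hfree c _ ?_).resolve_left hc
    have h1 : ∀ j, g c (g (c ^ j) v) = g (c ^ (j + 1)) v := fun j => by
      rw [← MulAut.mul_apply, ← map_mul, ← pow_succ']
    rw [map_prod, Finset.prod_congr rfl fun j _ => h1 j]
    have h2 := Finset.prod_range_succ' (fun j => g (c ^ j) v) r
    have h3 := Finset.prod_range_succ (fun j => g (c ^ j) v) r
    rw [h3, hA, pow_zero] at h2
    exact mul_right_cancel h2.symm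
  obtain ⟨v, hv⟩ := exists_ne (1 : V)
  refine hv (eq_one_of_pow_two_coprime hV hcop ?_)
  have h1 : ∏ i ∈ Finset.range r, ∏ j ∈ Finset.range r, g ((a * b ^ i) ^ j) v = 1 :=
    Finset.prod_eq_one fun i _ => hnorm _ (fun h => ha (by
      rw [map_mul, map_pow] at h
      rw [eq_inv_of_mul_eq_one_left h]
      exact inv_mem (pow_mem (Subgroup.mem_zpowers _) i))) v
  rw [Finset.prod_comm, Finset.prod_eq_single 0] at h1
  · simpa using h1
  · intro j hj hj0
    have h2 : ∀ i, g ((a * b ^ i) ^ j) v = g (a ^ j) (g ((b ^ j) ^ i) v) := fun i => by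
      rw [← MulAut.mul_apply, ← map_mul, mul_pow, ← pow_mul, ← pow_mul, mul_comm i j]
    rw [Finset.prod_congr rfl fun i _ => h2 i, ← map_prod, hnorm, map_one]
    intro hbj
    rw [map_pow] at hbj
    have h3 : orderOf (g b) = r := orderOf_eq_prime (by rw [← map_pow, hA, map_one]) hb
    have h4 := orderOf_dvd_of_pow_eq_one hbj
    rw [h3] at h4
    exact absurd (Nat.le_of_dvd (Nat.pos_of_ne_zero hj0) h4) (not_le.mpr (Finset.mem_range.mp hj))
  · intro h0
    exact absurd (Finset.mem_range.mpr hr.out.pos) h0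

/-- A faithful elementary abelian group of rank `m` needs `4 ^ m` points. -/
theorem four_pow_le {r : ℕ} [hr : Fact r.Prime] (hr2 : r ≠ 2) :
    ∀ (m : ℕ) (V : Type u) [CommGroup V] [Finite V], IsPGroup 2 V →
      ∀ (A : Type*) [CommGroup A] [Finite A] (g : A →* MulAut V), Function.Injective g →
        (∀ a : A, a ^ r = 1) → r ^ m ≤ Nat.card A → 4 ^ m ≤ Nat.card V := by
  classical
  intro m
  induction m with
  | zero => intro V _ _ _ A _ _ g _ _ _; rw [pow_zero]; exact Nat.one_le_iff_ne_zero.mpr Nat.card_pos.ne'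
  | succ m ih =>
    intro V _ _ hV A _ _ g hg hA hcard
    have hcop : r.Coprime 2 := (Nat.coprime_primes hr.out Nat.prime_two).mpr hr2
    have hpow : ∀ a, g a ^ r = 1 := fun a => by rw [← map_pow, hA, map_one]
    haveI : Nontrivial A := Finite.one_lt_card_iff_nontrivial.mp
      (lt_of_lt_of_le (Nat.one_lt_pow (Nat.succ_ne_zero m) hr.out.one_lt) hcard)
    obtain ⟨a, ha⟩ := exists_ne (1 : A)
    let δ : V →* V := (g a).toMonoidHom * (MonoidHom.id V)⁻¹
    have hδ : ∀ v, δ v = g a v * v⁻¹ := fun v => rfl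
    have hcomm : ∀ b c v, g b (g c v) = g c (g b v) := fun b c v => by
      rw [← MulAut.mul_apply, ← map_mul, mul_comm b, map_mul, MulAut.mul_apply]
    have hV1inv : ∀ b, ∀ v ∈ δ.range, g b v ∈ δ.range := by
      rintro b _ ⟨w, rfl⟩
      exact ⟨g b w, by rw [hδ, hδ, map_mul, map_inv, hcomm]⟩
    have hV1fix : ∀ v ∈ δ.range, g a v = v → v = 1 := by
      rintro _ ⟨w, rfl⟩ hfix
      exact displacement_eq_one hV hcop (hpow a) (v := w) (by rw [hδ, mul_comm w, inv_mul_cancel_right]) hfix
    have hV1ne : δ.range ≠ ⊥ := fun h => ha (hg (by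
      rw [map_one]
      refine MulEquiv.ext fun w => ?_
      have h1 : δ w ∈ (⊥ : Subgroup V) := h ▸ ⟨w, rfl⟩
      rw [Subgroup.mem_bot, hδ] at h1
      rw [MulAut.one_apply]; exact mul_inv_eq_one.mp h1))
    obtain ⟨M, hM⟩ := exists_minimal_of_wellFoundedLT
      (fun M : Subgroup V => M ≤ δ.range ∧ M ≠ ⊥ ∧ ∀ b, ∀ v ∈ M, g b v ∈ M) ⟨δ.range, le_rfl, hV1ne, hV1inv⟩
    obtain ⟨hMle, hM0, hMinv⟩ := hM.prop
    have hMiff : ∀ b v, v ∈ M ↔ g b v ∈ M := fun b v => ⟨hMinv b v, fun h => by
      have h1 := hMinv b⁻¹ _ h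
      rwa [← MulAut.mul_apply, ← map_mul, inv_mul_cancel, map_one, MulAut.one_apply] at h1⟩
    let gM : A →* MulAut M := MonoidHom.mk' (fun b => Alperin.restrict (g b) M (hMiff b))
      fun b c => MulEquiv.ext fun v => Subtype.ext (by
        show g (b * c) (v : V) = g b (g c (v : V))
        rw [map_mul, MulAut.mul_apply])
    haveI : Nontrivial M := M.bot_or_nontrivial.resolve_left hM0
    have hfree : ∀ b (v : M), gM b v = v → gM b = 1 ∨ v = 1 := by
      intro b v hv
      let F : Subgroup V := M ⊓ MonoidHom.eqLocus (g b).toMonoidHom (MonoidHom.id V)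
      by_cases hF : F = ⊥
      · refine Or.inr (Subtype.ext ?_)
        have : (v : V) ∈ F := ⟨v.2, congrArg Subtype.val hv⟩
        rwa [hF, Subgroup.mem_bot] at this
      · refine Or.inl (MulEquiv.ext fun w => Subtype.ext ?_)
        have hFinv : ∀ c, ∀ x ∈ F, g c x ∈ F := fun c x hx => ⟨hMinv c x hx.1, by
          show g b (g c x) = g c x
          rw [hcomm, show g b x = x from hx.2]⟩
        have h1 : F = M := by
          have := hM.eq_of_le ⟨inf_le_left.trans hMle, hF, hFinv⟩ inf_le_left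
          first | exact this | exact this.symm
        have : (w : V) ∈ F := h1.symm ▸ w.2
        exact this.2
    have hM4 : 4 ≤ Nat.card M := by
      obtain ⟨k, hk⟩ := IsPGroup.iff_card.mp (hV.to_subgroup M)
      rcases k with _ | _ | k
      · exact absurd (Subgroup.card_eq_one.mp (by rw [hk]; rfl)) hM0
      · obtain ⟨w, hw⟩ := exists_ne (1 : M)
        have hbool : Nat.card M = 2 := hk
        obtain ⟨y, -, hy⟩ := (Nat.card_eq_two_iff' (1 : M)).mp hbool
        have hfix : gM a w = w := by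
          have hne : gM a w ≠ 1 := fun h => hw ((gM a).injective (h.trans (map_one _).symm))
          exact (hy _ hne).trans (hy _ hw).symm
        exact absurd (Subtype.ext (hV1fix _ (hMle w.2) (congrArg Subtype.val hfix))) hw
      · rw [hk, show k + 1 + 1 = 2 + k by omega, pow_add]
        exact Nat.le_mul_of_pos_right 4 (Nat.two_pow_pos k)
    have hrange := card_range_le_of_free (hV.to_subgroup M) hr2 hA gM hfree
    have hker : r ^ m ≤ Nat.card gM.ker := by
      have h1 : Nat.card A = Nat.card gM.range * Nat.card gM.ker := by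
        rw [← Nat.card_congr (QuotientGroup.quotientKerEquivRange gM).toEquiv]
        exact gM.ker.card_eq_card_quotient_mul_card_subgroup
      rw [h1, pow_succ'] at hcard
      exact Nat.le_of_mul_le_mul_left (hcard.trans (Nat.mul_le_mul_right _ hrange)) hr.out.pos
    let gQ : gM.ker →* MulAut (V ⧸ M) := MonoidHom.mk' (fun b => onQuot (g (b : A)) M (hMiff _))
      fun b c => by
        refine MulEquiv.ext fun x => ?_
        induction x using QuotientGroup.induction_on with
        | H x =>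
          show ((g ((b * c : gM.ker) : A) x : V) : V ⧸ M) = ((g (b : A) (g (c : A) x) : V) : V ⧸ M)
          rw [Subgroup.coe_mul, map_mul, MulAut.mul_apply]
    have hgQ : Function.Injective gQ := by
      rw [injective_iff_map_eq_one]
      intro b hb
      refine Subtype.ext (hg ?_)
      rw [Subgroup.coe_one, map_one]
      refine MulEquiv.ext fun x => ?_
      have h1 : x⁻¹ * g (b : A) x ∈ M :=
        QuotientGroup.eq.mp (MulEquiv.congr_fun hb (x : V ⧸ M)).symm
      have h2 := displacement_eq_one hV hcop (hpow b) (mul_inv_cancel_left x _).symm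
        (congrArg Subtype.val (MulEquiv.congr_fun (MonoidHom.mem_ker.mp b.2) ⟨_, h1⟩))
      exact (inv_mul_eq_one.mp h2).symm
    have h2 := ih (V ⧸ M) (hV.to_quotient M) gM.ker gQ hgQ (fun b => Subtype.ext (hA b)) hker
    rw [M.card_eq_card_quotient_mul_card_subgroup, pow_succ]
    exact Nat.mul_le_mul h2 hM4

/-- A quotient of exponent `r` of an abelian group is small against its image's `r`-torsion. -/
theorem card_range_le_omega {A X Y : Type*} [CommGroup A] [Finite A] [CommGroup X] [Group Y]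
    {r : ℕ} (f : A →* X) (hf : Function.Surjective f) (g : A →* Y) (hker : f.ker ≤ g.ker)
    (hY : ∀ a, g (a ^ r) = 1) :
    Nat.card g.range ≤ Nat.card (powMonoidHom r : X →* X).ker := by
  haveI : Finite X := Finite.of_surjective f hf
  let g' : X →* Y := f.liftOfSurjective hf ⟨g, hker⟩
  have hg' : ∀ a, g' (f a) = g a := fun a => MonoidHom.liftOfRightInverse_comp_apply f _ _ ⟨g, hker⟩ a
  have hrange : g.range = g'.range := by
    ext y
    constructor
    · rintro ⟨a, rfl⟩; exact ⟨f a, hg' a⟩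
    · rintro ⟨x, rfl⟩; obtain ⟨a, rfl⟩ := hf x; exact ⟨a, (hg' a).symm⟩
  set P := (powMonoidHom r : X →* X) with hP
  have hle : P.range ≤ g'.ker := by
    rintro _ ⟨x, rfl⟩
    obtain ⟨a, rfl⟩ := hf x
    rw [MonoidHom.mem_ker, hP, powMonoidHom_apply, ← map_pow, hg', hY]
  have h1 : Nat.card P.range * Nat.card P.ker = Nat.card g'.range * Nat.card g'.ker := by
    rw [← Nat.card_congr (QuotientGroup.quotientKerEquivRange g').toEquiv,
      ← Nat.card_congr (QuotientGroup.quotientKerEquivRange P).toEquiv,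
      ← Subgroup.card_eq_card_quotient_mul_card_subgroup, ← Subgroup.card_eq_card_quotient_mul_card_subgroup]
  rw [hrange]
  have h2 : Nat.card g'.range * Nat.card g'.ker ≤ Nat.card P.ker * Nat.card g'.ker := by
    rw [← h1, mul_comm]
    exact Nat.mul_le_mul_left _ (Subgroup.card_le_of_le hle)
  exact Nat.le_of_mul_le_mul_right h2 Nat.card_pos

/-- The anisotropic bound. -/
theorem card_quotient_le_sq {G : Type*} [Group G] [Finite G] (W E : Subgroup G)
    (hE : ∀ e ∈ E, e ^ 2 = 1) (hinv : ∀ x ∈ W, x ^ 2 = 1 → x ∈ E)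
    (hcent : ∀ x ∈ W, ∀ e ∈ E, x * e = e * x) (hsq : ∀ x ∈ W, x ^ 2 ∈ E) :
    Nat.card (W ⧸ E.subgroupOf W) ≤ Nat.card E ^ 2 := by
  classical
  set E' := E.subgroupOf W with hE'
  haveI : E'.Normal := ⟨fun n hn g => by
    rw [hE', Subgroup.mem_subgroupOf] at hn ⊢
    rw [Subgroup.coe_mul, Subgroup.coe_mul, Subgroup.coe_inv, hcent _ g.2 _ hn, mul_inv_cancel_right]
    exact hn⟩
  have hEcomm : ∀ a ∈ E, ∀ b ∈ E, a * b = b * a := fun a ha b hb => by
    have h : ∀ x ∈ E, x⁻¹ = x := fun x hx => inv_eq_of_mul_eq_one_right (by rw [← sq, hE x hx])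
    rw [← h _ (mul_mem ha hb), mul_inv_rev, h a ha, h b hb]
  let sqE : W → E := fun x => ⟨(x : G) ^ 2, hsq x x.2⟩
  have hsqE : ∀ (x : W) (e : W), e ∈ E' → sqE (x * e) = sqE x := fun x e he => Subtype.ext (by
    show ((x : G) * (e : G)) ^ 2 = (x : G) ^ 2
    have he' : (e : G) ∈ E := he
    rw [Commute.mul_pow (hcent _ x.2 _ he'), hE _ he', mul_one])
  let q : W ⧸ E' → E := fun a => sqE a.out
  have hq0 : ∀ x : W, q (x : W ⧸ E') = sqE x := fun x => by
    obtain ⟨e, he⟩ := QuotientGroup.mk_out_eq_mul E' x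
    show sqE (x : W ⧸ E').out = sqE x
    rw [he, hsqE x e e.2]
  have hE2 : ∀ a : E, a * a = 1 := fun a => Subtype.ext (by rw [Subgroup.coe_mul, ← sq]; exact hE _ a.2)
  have hcommE : ∀ x ∈ W, ∀ y ∈ W, ⁅y, x⁆ ∈ E := fun x hx y hy => by
    have e : ⁅y, x⁆ = (y * x) ^ 2 * ((x⁻¹ * y⁻¹ * x) ^ 2 * (x⁻¹) ^ 2) := by
      simp [commutatorElement_def, sq, mul_assoc]
    rw [e]
    exact mul_mem (hsq _ (mul_mem hy hx)) (mul_mem
      (hsq _ (mul_mem (mul_mem (inv_mem hx) (inv_mem hy)) hx)) (hsq _ (inv_mem hx)))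
  let c : W ⧸ E' → W ⧸ E' → E := fun a b =>
    ⟨⁅((b.out : W) : G), ((a.out : W) : G)⁆, hcommE _ a.out.2 _ b.out.2⟩
  have hc0 : ∀ x y : W, ((c (x : W ⧸ E') (y : W ⧸ E') : E) : G) = ⁅(y : G), (x : G)⁆ := by
    intro x y
    obtain ⟨e, he⟩ := QuotientGroup.mk_out_eq_mul E' x
    obtain ⟨e', he'⟩ := QuotientGroup.mk_out_eq_mul E' y
    show ⁅(((y : W ⧸ E').out : W) : G), (((x : W ⧸ E').out : W) : G)⁆ = _
    rw [he, he', Subgroup.coe_mul, Subgroup.coe_mul, commutatorElement_def, commutatorElement_def]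
    have h1 : ((x : G) * ((e : W) : G)) = ((e : W) : G) * x := hcent _ x.2 _ e.2
    have h2 : ((y : G) * ((e' : W) : G)) = ((e' : W) : G) * y := hcent _ y.2 _ e'.2
    have h3 : ((x : G)) * ((e' : W) : G) = ((e' : W) : G) * x := hcent _ x.2 _ e'.2
    have h4 : ((e : W) : G) * ((e' : W) : G) = ((e' : W) : G) * ((e : W) : G) := hEcomm _ e.2 _ e'.2
    calc (y : G) * ((e' : W) : G) * ((x : G) * ((e : W) : G)) * ((y : G) * ((e' : W) : G))⁻¹ *
          ((x : G) * ((e : W) : G))⁻¹
        = (y : G) * ((x : G) * ((e : W) : G)) * (y : G)⁻¹ * ((x : G) * ((e : W) : G))⁻¹ := by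
          rw [mul_inv_rev, mul_assoc (y : G), show ((e' : W) : G) * ((x : G) * ((e : W) : G)) =
            ((x : G) * ((e : W) : G)) * ((e' : W) : G) by rw [← mul_assoc, ← h3, mul_assoc, ← h4, mul_assoc]]
          group
      _ = (y : G) * x * (y : G)⁻¹ * (x : G)⁻¹ := by
          have h5 : (y : G) * ((e : W) : G) = ((e : W) : G) * y := hcent _ y.2 _ e.2
          calc _ = (y : G) * (((e : W) : G) * x) * (y : G)⁻¹ * (((e : W) : G) * x)⁻¹ := by rw [h1]
            _ = ((e : W) : G) * ((y : G) * x * (y : G)⁻¹ * (x : G)⁻¹) * ((e : W) : G)⁻¹ := by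
              rw [← mul_assoc (y : G), h5]; group
            _ = _ := by
              have h6 : ((e : W) : G) * ⁅(y : G), (x : G)⁆ = ⁅(y : G), (x : G)⁆ * ((e : W) : G) :=
                hEcomm _ e.2 _ (hcommE _ x.2 _ y.2)
              rw [← commutatorElement_def, h6, mul_inv_cancel_right]
  have hq : ∀ a b, q (a * b) = q a * q b * c a b := by
    intro a b
    induction a using QuotientGroup.induction_on with
    | H x =>
    induction b using QuotientGroup.induction_on with
    | H y =>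
    refine Subtype.ext ?_
    rw [← QuotientGroup.mk_mul, hq0, hq0, hq0, Subgroup.coe_mul, Subgroup.coe_mul, hc0]
    show ((x : G) * y) ^ 2 = (x : G) ^ 2 * (y : G) ^ 2 * ⁅(y : G), (x : G)⁆
    have hk : (x : G) * ⁅(y : G), (x : G)⁆ = ⁅(y : G), (x : G)⁆ * x := hcent _ x.2 _ (hcommE _ x.2 _ y.2)
    have hk2 : (x : G) ^ 2 * (y : G) ^ 2 * ⁅(y : G), (x : G)⁆ = ⁅(y : G), (x : G)⁆ * ((x : G) ^ 2 * (y : G) ^ 2) :=
      hcent _ (mul_mem (pow_mem x.2 2) (pow_mem y.2 2)) _ (hcommE _ x.2 _ y.2)
    rw [hk2]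
    calc ((x : G) * y) ^ 2 = (x : G) * ((y : G) * x) * y := by rw [sq]; group
      _ = (x : G) * (⁅(y : G), (x : G)⁆ * ((x : G) * y)) * y := by
        congr 2
        rw [commutatorElement_def]; group
      _ = _ := by rw [← mul_assoc (x : G), hk, sq, sq]; group
  have hc : ∀ a b d, c (a * b) d = c a d * c b d := by
    intro a b d
    induction a using QuotientGroup.induction_on with
    | H x =>
    induction b using QuotientGroup.induction_on with
    | H y =>
    induction d using QuotientGroup.induction_on with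
    | H z =>
    refine Subtype.ext ?_
    rw [← QuotientGroup.mk_mul, Subgroup.coe_mul, hc0, hc0, hc0, Subgroup.coe_mul]
    have h1 : (x : G) * ⁅(z : G), (y : G)⁆ = ⁅(z : G), (y : G)⁆ * x := hcent _ x.2 _ (hcommE _ y.2 _ z.2)
    calc ⁅(z : G), (x : G) * y⁆ = ⁅(z : G), (x : G)⁆ * ((x : G) * ⁅(z : G), (y : G)⁆ * (x : G)⁻¹) := by
          simp [commutatorElement_def, mul_assoc]
      _ = _ := by rw [h1, mul_inv_cancel_right]
  have hV : ∀ a : W ⧸ E', a * a = 1 := fun a => by
    induction a using QuotientGroup.induction_on with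
    | H x =>
      rw [← QuotientGroup.mk_mul, QuotientGroup.eq_one_iff, hE', Subgroup.mem_subgroupOf, Subgroup.coe_mul, ← sq]
      exact hsq x x.2
  have hzero : ∀ a, q a ∈ (⊥ : Subgroup E) ↔ a = 1 := by
    intro a
    induction a using QuotientGroup.induction_on with
    | H x =>
      rw [hq0, Subgroup.mem_bot, QuotientGroup.eq_one_iff, hE', Subgroup.mem_subgroupOf]
      refine ⟨fun h => hinv _ x.2 (congrArg Subtype.val h), fun h => Subtype.ext (hE _ h)⟩
  have := QuadraticCount.card_mul_index_le hV hE2 hq hc ⊤ (fun _ _ => trivial) ⊥ hzero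
  rwa [sup_top_eq, Subgroup.index_top, mul_one, Subgroup.index_bot] at this

end CfsgLib.PGroups.OneClass
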