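import Mathlib
import Cfsg.Agent.Lib.PGroups.OneClass.Bound
import Cfsg.Agent.Lib.PGroups.ShultGross.Linear

/-!
# No moved odd group over a single class of involutions

`no_config`: if all involutions lie in an elementary group `E` permuted transitively by `B`, a
2-group `T ≥ E` does not act nontrivially on an `r`-group `H` (`r` odd) acting faithfully on a
2-group `Q ≥ E` and centralising `E`.
-/

set_option autoImplicit false
set_option linter.all false
set_option maxHeartbeats 1000000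

namespace CfsgLib.PGroups.OneClass

open CfsgLib.PGroups.Alperin
open scoped commutatorElement

variable {G : Type*} [Group G] [Finite G]

/-- `A` normalizes `X`. -/
def Norms (A X : Subgroup G) : Prop := ∀ g ∈ A, ∀ x ∈ X, g * x * g⁻¹ ∈ X

theorem Norms.iff {A X : Subgroup G} (h : Norms A X) (g : A) (x : G) :
    x ∈ X ↔ MulAut.conj (g : G) x ∈ X := by
  refine ⟨fun hx => h _ g.2 x hx, fun hx => ?_⟩
  have h1 := h _ (inv_mem g.2) _ hx
  simpa [mul_assoc] using h1

/-- The action by conjugation. -/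
def cjHom {A X : Subgroup G} (h : Norms A X) : A →* MulAut X :=
  MonoidHom.mk' (fun g => Alperin.restrict (MulAut.conj (g : G)) X (h.iff g)) fun a b =>
    MulEquiv.ext fun x => Subtype.ext (by
      show (MulAut.conj ((a * b : A) : G)) (x : G) = MulAut.conj (a : G) (MulAut.conj (b : G) (x : G))
      rw [Subgroup.coe_mul, map_mul, MulAut.mul_apply])

theorem cjHom_apply {A X : Subgroup G} (h : Norms A X) (g : A) (x : X) :
    ((cjHom h g x : X) : G) = (g : G) * x * (g : G)⁻¹ := rfl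

theorem Norms.map_char {A X : Subgroup G} (h : Norms A X) (Y : Subgroup X) [Y.Characteristic] :
    Norms A (Y.map X.subtype) := by
  rintro g hg _ ⟨y, hy, rfl⟩
  exact ⟨cjHom h ⟨g, hg⟩ y, (mem_iff_of_char (cjHom h ⟨g, hg⟩) Y y).mp hy, rfl⟩

/-- Displacements fixed by the element are trivial for coprime orders. -/
theorem displacement_trivial {p q : ℕ} [hp : Fact p.Prime] [hq : Fact q.Prime] (hpq : p ≠ q)
    {A X : Subgroup G} (hA : IsPGroup p A) (hX : IsPGroup q X) {g x k : G} (hg : g ∈ A)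
    (hk : k ∈ X) (hx : g * x * g⁻¹ = x * k) (hgk : g * k * g⁻¹ = k) : k = 1 := by
  obtain ⟨i, hi⟩ := hA ⟨g, hg⟩
  have hi' : g ^ p ^ i = 1 := congrArg Subtype.val hi
  have hrep : ∀ j : ℕ, g ^ j * x * (g ^ j)⁻¹ = x * k ^ j := by
    intro j
    induction j with
    | zero => simp
    | succ j ih =>
      calc g ^ (j + 1) * x * (g ^ (j + 1))⁻¹ = g * (g ^ j * x * (g ^ j)⁻¹) * g⁻¹ := by
            rw [pow_succ']; group
        _ = (g * x * g⁻¹) * (g * k * g⁻¹) ^ j := by rw [ih, conj_pow]; group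
        _ = x * k ^ (j + 1) := by rw [hx, hgk, mul_assoc, ← pow_succ']
  have h1 := hrep (p ^ i)
  rw [hi', one_mul, inv_one, mul_one, left_eq_mul] at h1
  obtain ⟨l, hl⟩ := hX ⟨k, hk⟩
  have hl' : k ^ q ^ l = 1 := congrArg Subtype.val hl
  have h2 := pow_gcd_eq_one.mpr (⟨h1, hl'⟩ : k ^ p ^ i = 1 ∧ k ^ q ^ l = 1)
  rwa [(((Nat.coprime_primes hp.out hq.out).mpr hpq).pow i l).gcd_eq_one, pow_one] at h2

/-- A two-group does not displace onto a whole nontrivial two-group. -/
theorem eq_bot_of_commutator_eq {R C : Subgroup G} (hR : IsPGroup 2 R) (hC : IsPGroup 2 C)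
    (hCR : Norms C R) (h : R ≤ ⁅R, C⁆) : R = ⊥ := by
  haveI : Fact (Nat.Prime 2) := ⟨Nat.prime_two⟩
  have hnorm : C ≤ Subgroup.normalizer (R : Set G) := fun c hc =>
    Subgroup.mem_normalizer_iff.mpr fun x => hCR.iff ⟨c, hc⟩ x
  set S := R ⊔ C with hS
  have hSp : IsPGroup 2 S := hR.to_sup_of_normal_left' hC hnorm
  haveI := hSp.isNilpotent
  obtain ⟨n, hn⟩ := nilpotent_iff_lowerCentralSeries.mp (inferInstance : Group.IsNilpotent S)
  have hle : ∀ k, R.subgroupOf S ≤ (⊤ : Subgroup S).lowerCentralSeries k := by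
    intro k
    induction k with
    | zero => exact le_top
    | succ k ih =>
      rw [Subgroup.lowerCentralSeries_succ]
      intro x hx
      have h1 : (x : G) ∈ ⁅R, C⁆ := h hx
      have h2 : ⁅R, C⁆ ≤ (⁅(⊤ : Subgroup S).lowerCentralSeries k, (⊤ : Subgroup S)⁆).map S.subtype := by
        rw [Subgroup.map_commutator, Subgroup.commutator_le]
        intro a ha b hb
        exact Subgroup.commutator_mem_commutator
          ⟨⟨a, Subgroup.mem_sup_left ha⟩, ih ha, rfl⟩ ⟨⟨b, Subgroup.mem_sup_right hb⟩, trivial, rfl⟩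
      obtain ⟨y, hy, hyx⟩ := h2 h1
      exact (Subtype.ext hyx : y = x) ▸ hy
  have h1 := hle n
  rw [hn, le_bot_iff, Subgroup.subgroupOf_eq_bot] at h1
  exact h1.eq_bot_of_le le_sup_left

omit [Finite G] in
/-- Central factors do not affect a commutator. -/
theorem commutator_central {c d : G} (hc : ∀ g, g * c = c * g) (hd : ∀ g, g * d = d * g) (a b : G) :
    ⁅a * c, b * d⁆ = ⁅a, b⁆ := by
  have h1 : ∀ y : G, ⁅a * c, y⁆ = ⁅a, y⁆ := fun y => by
    calc ⁅a * c, y⁆ = a * (c * y * c⁻¹) * a⁻¹ * y⁻¹ := by rw [commutatorElement_def]; group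
      _ = ⁅a, y⁆ := by rw [← hc y, mul_inv_cancel_right, commutatorElement_def]
  rw [h1]
  calc ⁅a, b * d⁆ = a * b * (d * a⁻¹ * d⁻¹) * b⁻¹ := by rw [commutatorElement_def]; group
    _ = ⁅a, b⁆ := by rw [← hd a⁻¹, mul_inv_cancel_right, commutatorElement_def]

/-- Exponent-`r` elements indexed by distinct sign patterns are independent. -/
theorem pow_eq_one_of_prod {H T ι : Type*} [CommGroup H] [Finite H] {r : ℕ} [hr : Fact r.Prime]
    (hr2 : r ≠ 2) (hH : ∀ h : H, h ^ r = 1) (act : T → MulAut H) (y : ι → H) (mem : ι → T → Prop)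
    (hfix : ∀ i t, mem i t → act t (y i) = y i) (hneg : ∀ i t, ¬ mem i t → act t (y i) = (y i)⁻¹)
    (hsep : ∀ i j, i ≠ j → ∃ t, ¬ (mem i t ↔ mem j t)) :
    ∀ (s : Finset ι) (a : ι → ℕ), ∏ i ∈ s, y i ^ a i = 1 → ∀ i ∈ s, y i ^ a i = 1 := by
  classical
  intro s
  induction s using Finset.induction with
  | empty => simp
  | @insert j s hj ih =>
    intro a hprod
    have hs : ∀ i ∈ s, y i ^ a i = 1 := by
      intro i hi
      obtain ⟨t, ht⟩ := hsep i j (fun e => hj (e ▸ hi))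
      let a' : ι → ℕ := fun l => if (mem l t ↔ mem j t) then 0 else 2 * a l
      have hterm : ∀ l, (if mem j t then y l ^ a l * (act t (y l ^ a l))⁻¹
          else y l ^ a l * act t (y l ^ a l)) = y l ^ a' l := by
        intro l
        rw [map_pow]
        simp only [a']
        by_cases h1 : mem l t <;> by_cases h2 : mem j t
        · simp [h1, h2, hfix l t h1]
        · simp [h1, h2, hfix l t h1, two_mul, pow_add]
        · simp [h1, h2, hneg l t h1, two_mul, pow_add]
        · simp [h1, h2, hneg l t h1]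
      have h0 : ∏ l ∈ insert j s, y l ^ a' l = 1 := by
        rw [← Finset.prod_congr rfl fun l _ => hterm l]
        by_cases h2 : mem j t
        · simp only [h2, if_true]
          rw [Finset.prod_mul_distrib, Finset.prod_inv_distrib, ← map_prod, hprod, map_one, inv_one, one_mul]
        · simp only [h2, if_false]
          rw [Finset.prod_mul_distrib, ← map_prod, hprod, map_one, one_mul]
      rw [Finset.prod_insert hj, show y j ^ a' j = 1 by simp [a'], one_mul] at h0
      have h1 := ih a' h0 i hi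
      simp only [a', if_neg ht, mul_comm 2, pow_mul] at h1
      have h2 := pow_gcd_eq_one.mpr (⟨h1, hH _⟩ : (y i ^ a i) ^ 2 = 1 ∧ (y i ^ a i) ^ r = 1)
      rwa [((Nat.coprime_primes Nat.prime_two hr.out).mpr (Ne.symm hr2)).gcd_eq_one, pow_one] at h2
    intro i hi
    rcases Finset.mem_insert.mp hi with rfl | hi
    · rwa [Finset.prod_insert hj, Finset.prod_eq_one hs, mul_one] at hprod
    · exact hs i hi

/-- The configuration with the minimality. -/
theorem no_config_minimal {r : ℕ} [hr : Fact r.Prime] (hr2 : r ≠ 2) (E Q T H B : Subgroup G)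
    (hE2 : ∀ e ∈ E, e ^ 2 = 1) (hinv : ∀ x : G, x ^ 2 = 1 → x ∈ E) (hQ : IsPGroup 2 Q)
    (hT : IsPGroup 2 T) (hH : IsPGroup r H) (hET : E ≤ T)
    (hQE : ∀ q ∈ Q, ∀ e ∈ E, q * e = e * q) (hHE : ∀ h ∈ H, ∀ e ∈ E, h * e = e * h)
    (hHQ : Norms H Q) (hTQ : Norms T Q) (hBQ : Norms B Q) (hTH : Norms T H) (hBH : Norms B H)
    (hBT : Norms B T) (hfaith : ∀ h ∈ H, (∀ q ∈ Q, h * q = q * h) → h = 1)
    (hmove : ¬ T ≤ Subgroup.centralizer (H : Set G))
    (hTmin : ∀ T' : Subgroup G, E ≤ T' → T' ≤ T → T' ≠ T → Norms B T' →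
      T' ≤ Subgroup.centralizer (H : Set G))
    (hHmin : ∀ H' : Subgroup G, H' ≤ H → H' ≠ H → Norms T H' → Norms B H' →
      T ≤ Subgroup.centralizer (H' : Set G))
    (htrans : ∀ e ∈ E, ∀ f ∈ E, e ≠ 1 → f ≠ 1 → ∃ b ∈ B, b * e * b⁻¹ = f)
    (htwo : ∃ e ∈ E, ∃ f ∈ E, e ≠ 1 ∧ f ≠ 1 ∧ e ≠ f) : False := by
  classical
  haveI : Fact (Nat.Prime 2) := ⟨Nat.prime_two⟩
  have hcop : r.Coprime 2 := (Nat.coprime_primes hr.out Nat.prime_two).mpr hr2
  obtain ⟨e₁, he₁, f₁, hf₁, he₁1, hf₁1, hef⟩ := htwo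
  have hnofix : ∀ e ∈ E, (∀ b ∈ B, b * e * b⁻¹ = e) → e = 1 := by
    intro e he hfix
    by_contra h1
    obtain ⟨b, hb, hbe⟩ := htrans e he e₁ he₁ h1 he₁1
    obtain ⟨b', hb', hbf⟩ := htrans e he f₁ hf₁ h1 hf₁1
    rw [hfix b hb] at hbe
    rw [hfix b' hb'] at hbf
    exact hef (hbe.symm.trans hbf)
  have hEn : ∀ g : G, ∀ e ∈ E, g * e * g⁻¹ ∈ E := fun g e he =>
    hinv _ (by rw [conj_pow, hE2 e he, mul_one, mul_inv_cancel])
  -- `E` is central in `T`
  have hTE : ∀ t ∈ T, ∀ e ∈ E, t * e = e * t := by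
    have hTne : Nontrivial T := ⟨⟨⟨e₁, hET he₁⟩, 1, fun h => he₁1 (congrArg Subtype.val h)⟩⟩
    obtain ⟨z, hz⟩ := exists_prime_orderOf_dvd_card' (G := Subgroup.center T) 2 (by
      haveI := hT.center_nontrivial
      obtain ⟨k, hk⟩ := IsPGroup.iff_card.mp (hT.to_subgroup (Subgroup.center T))
      rw [hk]
      exact dvd_pow_self 2 (fun h0 => by
        rw [h0, pow_zero] at hk
        exact absurd hk (ne_of_gt Finite.one_lt_card)))
    have hz2 : (((z : T) : G)) ^ 2 = 1 := by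
      have := pow_orderOf_eq_one z
      rw [hz] at this
      exact congrArg (fun u : Subgroup.center T => ((u : T) : G)) this
    have hz1 : ((z : T) : G) ≠ 1 := fun h => by
      rw [show z = 1 from Subtype.ext (Subtype.ext h), orderOf_one] at hz
      exact absurd hz (by norm_num)
    intro t ht e he
    by_cases he1 : e = 1
    · subst he1; simp
    obtain ⟨b, hb, rfl⟩ := htrans _ (hinv _ hz2) e he hz1 he1
    have h1 : b⁻¹ * t * b ∈ T := by simpa using hBT _ (inv_mem hb) t ht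
    have h2 : (b⁻¹ * t * b) * ((z : T) : G) = ((z : T) : G) * (b⁻¹ * t * b) :=
      congrArg Subtype.val (Subgroup.mem_center_iff.mp z.2 ⟨_, h1⟩)
    calc t * (b * ((z : T) : G) * b⁻¹) = b * ((b⁻¹ * t * b) * ((z : T) : G)) * b⁻¹ := by group
      _ = b * ((z : T) : G) * b⁻¹ * t := by rw [h2]; group
  -- the action on `H`
  let aT : T →* MulAut H := cjHom hTH
  let aB : B →* MulAut H := cjHom hBH
  let bT : B →* MulAut T := cjHom hBT
  have hequiv : ∀ (b : B) (t : T) (h : H), aB b (aT t h) = aT (bT b t) (aB b h) := fun b t h =>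
    Subtype.ext (by simp only [aB, aT, bT, cjHom_apply]; group)
  -- differences generate `H`
  set D := Subgroup.closure (Set.range fun z : T × H => (z.2)⁻¹ * aT z.1 z.2) with hD
  have hDtop : D = ⊤ := by
    by_contra hne
    set D' := D.map H.subtype with hD'
    have hD'le : D' ≤ H := Subgroup.map_subtype_le _
    have hD'ne : D' ≠ H := fun h => hne (Subgroup.map_injective H.subtype_injective (by
      rw [← MonoidHom.range_eq_map, Subgroup.range_subtype]; exact h))
    have hDT : ∀ t : T, D.map (aT t).toMonoidHom ≤ D := fun t => by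
      rw [hD, MonoidHom.map_closure, Subgroup.closure_le]
      rintro _ ⟨_, ⟨⟨s, h⟩, rfl⟩, rfl⟩
      refine Subgroup.subset_closure ⟨⟨t * s * t⁻¹, aT t h⟩, ?_⟩
      show (aT t h)⁻¹ * aT (t * s * t⁻¹) (aT t h) = aT t (h⁻¹ * aT s h)
      rw [map_mul (aT t), map_inv, ← MulAut.mul_apply, ← MulAut.mul_apply, ← map_mul, ← map_mul,
        inv_mul_cancel_right]
    have hDB : ∀ b : B, D.map (aB b).toMonoidHom ≤ D := fun b => by
      rw [hD, MonoidHom.map_closure, Subgroup.closure_le]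
      rintro _ ⟨_, ⟨⟨s, h⟩, rfl⟩, rfl⟩
      refine Subgroup.subset_closure ⟨⟨bT b s, aB b h⟩, ?_⟩
      show (aB b h)⁻¹ * aT (bT b s) (aB b h) = aB b (h⁻¹ * aT s h)
      rw [map_mul, map_inv, hequiv]
    have hcent := hHmin D' hD'le hD'ne
      (fun g hg x hx => by
        obtain ⟨d, hd, rfl⟩ := hx
        exact ⟨aT ⟨g, hg⟩ d, hDT ⟨g, hg⟩ (Subgroup.mem_map_of_mem _ hd), rfl⟩)
      (fun g hg x hx => by
        obtain ⟨d, hd, rfl⟩ := hx
        exact ⟨aB ⟨g, hg⟩ d, hDB ⟨g, hg⟩ (Subgroup.mem_map_of_mem _ hd), rfl⟩)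
    refine hmove fun t ht => Subgroup.mem_centralizer_iff.mpr fun h hh => ?_
    have hkD : (((⟨h, hh⟩ : H)⁻¹ * aT ⟨t, ht⟩ ⟨h, hh⟩ : H) : G) ∈ D' :=
      Subgroup.mem_map_of_mem H.subtype (Subgroup.subset_closure ⟨(⟨t, ht⟩, ⟨h, hh⟩), rfl⟩ :
        (⟨h, hh⟩ : H)⁻¹ * aT ⟨t, ht⟩ ⟨h, hh⟩ ∈ D)
    rw [Subgroup.coe_mul, Subgroup.coe_inv, cjHom_apply] at hkD
    have hfixk := Subgroup.mem_centralizer_iff.mp (hcent ht) _ hkD
    have hk1 := displacement_trivial (Ne.symm hr2) hT hH ht (hD'le hkD) (mul_inv_cancel_left h _).symm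
      (by rw [← hfixk, mul_inv_cancel_right])
    rw [inv_mul_eq_one] at hk1
    exact mul_inv_eq_iff_eq_mul.mp hk1.symm |>.symm
  haveI hHnt : Nontrivial H := by
    by_contra hn
    rw [not_nontrivial_iff_subsingleton] at hn
    refine hmove fun t _ => Subgroup.mem_centralizer_iff.mpr fun h hh => ?_
    have : (⟨h, hh⟩ : H) = 1 := Subsingleton.elim _ _
    rw [show h = 1 from congrArg Subtype.val this, one_mul, mul_one]
  set Φ := frattini H with hΦ
  have hΦne : Φ ≠ ⊤ := by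
    intro htop
    have hbot : (⊥ : Subgroup H) = ⊤ := frattini_nongenerating (by rw [← hΦ, htop, sup_top_eq])
    exact bot_ne_top hbot
  have hΦfix : ∀ (t : T), ∀ x ∈ Φ, aT t x = x := by
    intro t x hx
    have hcent := hHmin (Φ.map H.subtype) (Subgroup.map_subtype_le _) (fun h => hΦne
      (Subgroup.map_injective H.subtype_injective (by
        rw [← MonoidHom.range_eq_map, Subgroup.range_subtype]; exact h)))
      (hTH.map_char Φ) (hBH.map_char Φ) t.2
    refine Subtype.ext ?_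
    have h0 : (x : G) * (t : G) = (t : G) * x :=
      Subgroup.mem_centralizer_iff.mp hcent _ (Subgroup.mem_map_of_mem H.subtype hx)
    rw [cjHom_apply, ← h0, mul_inv_cancel_right]
  have hΦcen : Φ ≤ Subgroup.center H := by
    intro f hf
    have hle : D ≤ Subgroup.centralizer ({f} : Set H) := by
      rw [hD, Subgroup.closure_le]
      rintro _ ⟨⟨t, x⟩, rfl⟩
      rw [SetLike.mem_coe, Subgroup.mem_centralizer_singleton_iff]
      have h1 : aT t (x * f * x⁻¹) = x * f * x⁻¹ :=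
        hΦfix t _ ((inferInstance : (frattini H).Normal).conj_mem f hf x)
      rw [map_mul, map_mul, map_inv, hΦfix t f hf] at h1
      calc x⁻¹ * aT t x * f = x⁻¹ * (aT t x * f * (aT t x)⁻¹) * aT t x := by group
        _ = f * (x⁻¹ * aT t x) := by rw [h1]; group
    rw [hDtop] at hle
    exact Subgroup.mem_center_iff.mpr fun g =>
      Subgroup.mem_centralizer_singleton_iff.mp (hle (Subgroup.mem_top g))
  have hcommΦ : ∀ x y : H, ⁅x, y⁆ ∈ Φ := fun x y => commutator_le_frattini' hH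
    (Subgroup.commutator_mem_commutator (Subgroup.mem_top x) (Subgroup.mem_top y))
  letI : CommGroup (H ⧸ Φ) :=
    { (inferInstance : Group (H ⧸ Φ)) with
      mul_comm := fun x y => by
        induction x using QuotientGroup.induction_on with
        | H x =>
        induction y using QuotientGroup.induction_on with
        | H y =>
        show ((x * y : H) : H ⧸ Φ) = ((y * x : H) : H ⧸ Φ)
        rw [QuotientGroup.eq]
        simpa [commutatorElement_def, mul_assoc] using hcommΦ y⁻¹ x⁻¹ }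
  have hexp : ∀ u : H ⧸ Φ, u ^ r = 1 := by
    intro u
    induction u using QuotientGroup.induction_on with
    | H x =>
      rw [← QuotientGroup.mk_pow]
      exact (QuotientGroup.eq_one_iff _).mpr (pow_mem_frattini hH x)
  let act : T →* MulAut (H ⧸ Φ) := MonoidHom.mk'
    (fun t => onQuot (aT t) Φ (mem_iff_of_char _ Φ)) fun s t => by
      refine MulEquiv.ext fun a => ?_
      induction a using QuotientGroup.induction_on with
      | H x =>
        show ((aT (s * t) x : H) : H ⧸ Φ) = ((aT s (aT t x) : H) : H ⧸ Φ)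
        rw [map_mul, MulAut.mul_apply]
  -- no fixed points modulo `Φ`
  have hnofixH : ∀ u : H ⧸ Φ, (∀ t, act t u = u) → u = 1 := by
    intro u hu
    haveI := Fintype.ofFinite T
    let A : H ⧸ Φ →* H ⧸ Φ := ∏ t : T, (act t).toMonoidHom
    have hA : ∀ a, A a = ∏ t : T, act t a := fun a => by simp [A]
    have hkill : ∀ x : H, A (x : H ⧸ Φ) = 1 := by
      intro x
      have hle : D ≤ A.ker.comap (QuotientGroup.mk' Φ) := by
        rw [hD, Subgroup.closure_le]
        rintro _ ⟨⟨s, w⟩, rfl⟩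
        rw [SetLike.mem_coe, Subgroup.mem_comap, MonoidHom.mem_ker, map_mul, map_inv, map_mul, map_inv,
          inv_mul_eq_one, hA, hA]
        symm
        refine Fintype.prod_equiv (Equiv.mulRight s) _ _ fun v => ?_
        show act v (act s (w : H ⧸ Φ)) = act (v * s) (w : H ⧸ Φ)
        rw [map_mul, MulAut.mul_apply]
      rw [hDtop] at hle
      exact hle (Subgroup.mem_top x)
    obtain ⟨x, rfl⟩ := QuotientGroup.mk_surjective u
    have h1 := hkill x
    rw [hA, Finset.prod_congr rfl fun t _ => hu t, Finset.prod_const, Finset.card_univ,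
      ← Nat.card_eq_fintype_card] at h1
    obtain ⟨k, hk⟩ := IsPGroup.iff_card.mp hT
    rw [hk] at h1
    have h2 := pow_gcd_eq_one.mpr (⟨hexp _, h1⟩ : (x : H ⧸ Φ) ^ r = 1 ∧ (x : H ⧸ Φ) ^ 2 ^ k = 1)
    rwa [(hcop.pow_right k).gcd_eq_one, pow_one] at h2
  -- the module `R`
  have hHQmove : ¬ H ≤ Subgroup.centralizer (Q : Set G) := fun hle => by
    obtain ⟨h, hh⟩ := exists_ne (1 : H)
    exact hh (Subtype.ext (hfaith h h.2 fun q hq =>
      ((Subgroup.mem_centralizer_iff.mp (hle h.2)) q hq).symm))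
  obtain ⟨R, hRmin⟩ := exists_minimal_of_wellFoundedLT
    (fun R : Subgroup G => R ≤ Q ∧ Norms H R ∧ Norms T R ∧ Norms B R ∧
      ¬ H ≤ Subgroup.centralizer (R : Set G)) ⟨Q, le_rfl, hHQ, hTQ, hBQ, hHQmove⟩
  obtain ⟨hRQ, hHR, hTR, hBR, hRmove⟩ := hRmin.prop
  have hR2 : IsPGroup 2 R := hQ.to_le hRQ
  have hRfix : ∀ X : Subgroup G, X ≤ R → X ≠ R → Norms H X → Norms T X → Norms B X →
      ∀ h ∈ H, ∀ x ∈ X, h * x * h⁻¹ = x := by
    intro X hX hne h1 h2 h3 h hh x hx
    by_contra hne'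
    refine hne ?_
    have h4 := hRmin.eq_of_le ⟨hX.trans hRQ, h1, h2, h3, fun hle => hne' (by
      rw [← Subgroup.mem_centralizer_iff.mp (hle hh) x hx, mul_inv_cancel_right])⟩ hX
    first | exact h4 | exact h4.symm
  let aR : H →* MulAut R := cjHom hHR
  set DR := Subgroup.closure (Set.range fun z : H × R => (z.2)⁻¹ * aR z.1 z.2) with hDR
  have hDRtop : DR = ⊤ := by
    by_contra hne
    have hmaps : ∀ (g : G), (hgH : ∀ h : G, h ∈ H → g * h * g⁻¹ ∈ H) → (hgR : ∀ x ∈ R, g * x * g⁻¹ ∈ R) →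
        ∀ x ∈ DR.map R.subtype, g * x * g⁻¹ ∈ DR.map R.subtype := by
      intro g hgH hgR
      have hle : DR.map R.subtype ≤ (DR.map R.subtype).comap (MulAut.conj g).toMonoidHom := by
        rw [hDR, MonoidHom.map_closure, Subgroup.closure_le]
        rintro _ ⟨_, ⟨⟨h, x⟩, rfl⟩, rfl⟩
        refine Subgroup.subset_closure ⟨(⟨g * (x : G) * g⁻¹, hgR x x.2⟩ : R)⁻¹ *
          aR ⟨g * (h : G) * g⁻¹, hgH h h.2⟩ ⟨g * (x : G) * g⁻¹, hgR x x.2⟩,
          ⟨(⟨g * (h : G) * g⁻¹, hgH h h.2⟩, ⟨g * (x : G) * g⁻¹, hgR x x.2⟩), rfl⟩, ?_⟩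
        simp only [aR, Subgroup.coe_subtype, Subgroup.coe_mul, Subgroup.coe_inv, cjHom_apply,
          MulEquiv.coe_toMonoidHom, MulAut.conj_apply]
        group
      exact fun x hx => hle hx
    refine hRmove fun h hh => Subgroup.mem_centralizer_iff.mpr fun x hx => ?_
    have hfix := hRfix (DR.map R.subtype) (Subgroup.map_subtype_le _) (fun h' => hne
      (Subgroup.map_injective R.subtype_injective (by
        rw [← MonoidHom.range_eq_map, Subgroup.range_subtype]; exact h')))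
      (fun g hg => hmaps g (fun h hh => mul_mem (mul_mem hg hh) (inv_mem hg)) (hHR g hg))
      (fun g hg => hmaps g (hTH g hg) (hTR g hg)) (fun g hg => hmaps g (hBH g hg) (hBR g hg)) h hh
    have hkD : (((⟨x, hx⟩ : R)⁻¹ * aR ⟨h, hh⟩ ⟨x, hx⟩ : R) : G) ∈ DR.map R.subtype :=
      Subgroup.mem_map_of_mem R.subtype (Subgroup.subset_closure ⟨(⟨h, hh⟩, ⟨x, hx⟩), rfl⟩ :
        (⟨x, hx⟩ : R)⁻¹ * aR ⟨h, hh⟩ ⟨x, hx⟩ ∈ DR)
    rw [Subgroup.coe_mul, Subgroup.coe_inv, cjHom_apply] at hkD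
    have hk1 := displacement_trivial hr2 hH hR2 hh (Subgroup.map_subtype_le _ hkD)
      (mul_inv_cancel_left x _).symm (hfix _ hkD)
    rw [inv_mul_eq_one] at hk1
    exact mul_inv_eq_iff_eq_mul.mp hk1.symm |>.symm
  haveI hRnt : Nontrivial R := by
    by_contra hn
    rw [not_nontrivial_iff_subsingleton] at hn
    refine hRmove fun h _ => Subgroup.mem_centralizer_iff.mpr fun x hx => ?_
    rw [show x = 1 from congrArg Subtype.val (Subsingleton.elim (⟨x, hx⟩ : R) 1), one_mul, mul_one]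
  set ΦR := frattini R with hΦR
  have hΦRfix : ∀ h : H, ∀ x ∈ ΦR, aR h x = x := by
    intro h x hx
    refine Subtype.ext ?_
    rw [cjHom_apply]
    refine hRfix (ΦR.map R.subtype) (Subgroup.map_subtype_le _) (fun h' => ?_) (hHR.map_char ΦR)
      (hTR.map_char ΦR) (hBR.map_char ΦR) h h.2 _ (Subgroup.mem_map_of_mem R.subtype hx)
    have htop : ΦR = ⊤ := Subgroup.map_injective R.subtype_injective (by
      rw [← MonoidHom.range_eq_map, Subgroup.range_subtype]; exact h')
    exact bot_ne_top (frattini_nongenerating (by rw [← hΦR, htop, sup_top_eq]) : (⊥ : Subgroup R) = ⊤)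
  have hΦRcen : ∀ f ∈ ΦR, ∀ x : R, x * f = f * x := by
    intro f hf
    have hle : DR ≤ Subgroup.centralizer ({f} : Set R) := by
      rw [hDR, Subgroup.closure_le]
      rintro _ ⟨⟨t, x⟩, rfl⟩
      rw [SetLike.mem_coe, Subgroup.mem_centralizer_singleton_iff]
      have h1 : aR t (x * f * x⁻¹) = x * f * x⁻¹ :=
        hΦRfix t _ ((inferInstance : (frattini R).Normal).conj_mem f hf x)
      rw [map_mul, map_mul, map_inv, hΦRfix t f hf] at h1
      calc x⁻¹ * aR t x * f = x⁻¹ * (aR t x * f * (aR t x)⁻¹) * aR t x := by group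
        _ = f * (x⁻¹ * aR t x) := by rw [h1]; group
    rw [hDRtop] at hle
    exact fun x => Subgroup.mem_centralizer_singleton_iff.mp (hle (Subgroup.mem_top x))
  have hsqΦ : ∀ x : R, x ^ 2 ∈ ΦR := fun x => pow_mem_frattini hR2 x
  have hcΦ : ∀ x y : R, ⁅x, y⁆ ∈ ΦR := fun x y => commutator_le_frattini' hR2
    (Subgroup.commutator_mem_commutator (Subgroup.mem_top x) (Subgroup.mem_top y))
  have hc2 : ∀ x y : R, ⁅x, y⁆ ^ 2 = 1 := by
    intro x y
    have h1 : ⁅x ^ 2, y⁆ = 1 := commutatorElement_eq_one_iff_mul_comm.mpr (hΦRcen _ (hsqΦ x) y).symm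
    have h2 : ⁅x ^ 2, y⁆ = x * ⁅x, y⁆ * x⁻¹ * ⁅x, y⁆ := by simp [commutatorElement_def, sq, mul_assoc]
    rw [hΦRcen _ (hcΦ x y) x, mul_inv_cancel_right, h1, ← sq] at h2
    exact h2.symm
  have hsqmul : ∀ x y : R, (x * y) ^ 2 = ⁅y, x⁆ * (x ^ 2 * y ^ 2) := by
    intro x y
    calc (x * y) ^ 2 = x * (y * x) * y := by rw [sq]; group
      _ = x * (⁅y, x⁆ * (x * y)) * y := by congr 2; rw [commutatorElement_def]; group
      _ = ⁅y, x⁆ * (x ^ 2 * y ^ 2) := by
        rw [← mul_assoc x, hΦRcen _ (hcΦ y x) x, sq, sq]; group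
  have hRsq : ∀ x : R, ((x : G)) ^ 2 ∈ E := by
    let L : Subgroup R :=
      { carrier := {x | ((x : G)) ^ 2 ∈ E}
        one_mem' := by simp
        mul_mem' := fun {x y} hx hy => by
          have h1 := congrArg Subtype.val (hsqmul x y)
          simp only [Subgroup.coe_pow, Subgroup.coe_mul] at h1
          show ((x : G) * y) ^ 2 ∈ E
          rw [h1]
          exact mul_mem (hinv _ (congrArg Subtype.val (hc2 y x))) (mul_mem hx hy)
        inv_mem' := fun {x} hx => by
          show ((x : G)⁻¹) ^ 2 ∈ E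
          rw [inv_pow]; exact inv_mem hx }
    have hle : DR ≤ L := by
      rw [hDR, Subgroup.closure_le]
      rintro _ ⟨⟨h, x⟩, rfl⟩
      set k := x⁻¹ * aR h x with hk
      have h1 : aR h x = x * k := (mul_inv_cancel_left _ _).symm
      have h2 : (x * k) ^ 2 = x ^ 2 := by rw [← h1, ← map_pow]; exact hΦRfix h _ (hsqΦ x)
      rw [hsqmul, ← mul_assoc, ← hΦRcen _ (hcΦ k x) (x ^ 2), mul_assoc, mul_eq_left] at h2
      show ((k : G)) ^ 2 ∈ E
      have h4 : k ^ 2 = ⁅k, x⁆⁻¹ := eq_inv_of_mul_eq_one_right h2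
      refine hinv _ ?_
      have h5 : (k ^ 2) ^ 2 = 1 := by rw [h4, inv_pow, hc2, inv_one]
      exact congrArg Subtype.val h5
    exact fun x => hle (hDRtop ▸ Subgroup.mem_top x)
  obtain ⟨h₀, hh₀, x₀, hx₀, hx₀ne⟩ : ∃ h ∈ H, ∃ x ∈ R, h * x * h⁻¹ ≠ x := by
    by_contra hall
    push Not at hall
    exact hRmove fun h hh => Subgroup.mem_centralizer_iff.mpr fun x hx => by
      conv_lhs => rw [← hall h hh x hx]
      group
  have hx₀E : x₀ ∉ E := fun he => hx₀ne (by rw [hHE h₀ hh₀ x₀ he, mul_inv_cancel_right])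
  -- the centralizer of `H` in `T` is `E`
  set C := T ⊓ Subgroup.centralizer (H : Set G) with hC
  have hBC : Norms B C := fun b hb c hc => ⟨hBT b hb c hc.1, Subgroup.mem_centralizer_iff.mpr fun h hh => by
    have h1 : b⁻¹ * h * b ∈ H := by simpa using hBH _ (inv_mem hb) h hh
    have h2 := Subgroup.mem_centralizer_iff.mp hc.2 _ h1
    calc h * (b * c * b⁻¹) = b * ((b⁻¹ * h * b) * c) * b⁻¹ := by group
      _ = b * c * b⁻¹ * h := by rw [h2]; group⟩
  have hEC : E ≤ C := fun e he => ⟨hET he, Subgroup.mem_centralizer_iff.mpr fun h hh => hHE h hh e he⟩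
  have hCT : Norms T C := fun t ht c hc => ⟨T.mul_mem (T.mul_mem ht hc.1) (T.inv_mem ht),
    Subgroup.mem_centralizer_iff.mpr fun h hh => by
      have h1 : t⁻¹ * h * t ∈ H := by simpa using hTH _ (inv_mem ht) h hh
      have h2 := Subgroup.mem_centralizer_iff.mp hc.2 _ h1
      calc h * (t * c * t⁻¹) = t * ((t⁻¹ * h * t) * c) * t⁻¹ := by group
        _ = t * c * t⁻¹ * h := by rw [h2]; group⟩
  have hCR : Norms C R := fun c hc => hTR c hc.1
  have hRC : ∀ x ∈ R, ∀ c ∈ C, x * c = c * x := by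
    have hle : ⁅R, C⁆ ≤ R := by
      rw [Subgroup.commutator_le]
      intro x hx c hc
      have h1 : c * x⁻¹ * c⁻¹ ∈ R := hCR c hc _ (inv_mem hx)
      rw [show ⁅x, c⁆ = x * (c * x⁻¹ * c⁻¹) by rw [commutatorElement_def]; group]
      exact mul_mem hx h1
    have hne : ⁅R, C⁆ ≠ R := fun h => hx₀E (by
      have := eq_bot_of_commutator_eq hR2 (hT.to_le inf_le_left) hCR h.ge
      rw [this, Subgroup.mem_bot] at hx₀
      rw [hx₀]; exact one_mem _)
    have hnc : ∀ (g : G), (∀ x ∈ R, g * x * g⁻¹ ∈ R) → (∀ c ∈ C, g * c * g⁻¹ ∈ C) →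
        ∀ z ∈ ⁅R, C⁆, g * z * g⁻¹ ∈ ⁅R, C⁆ := by
      intro g hgR hgC z hz
      have : ⁅R, C⁆ ≤ (⁅R, C⁆).comap (MulAut.conj g).toMonoidHom := by
        rw [Subgroup.commutator_le]
        intro x hx c hc
        show MulAut.conj g ⁅x, c⁆ ∈ ⁅R, C⁆
        rw [map_commutatorElement]
        exact Subgroup.commutator_mem_commutator (hgR x hx) (hgC c hc)
      exact this hz
    have hHC : ∀ h ∈ H, ∀ c ∈ C, h * c * h⁻¹ ∈ C := fun h hh c hc => by
      rw [Subgroup.mem_centralizer_iff.mp hc.2 h hh, mul_inv_cancel_right]; exact hc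
    have hfix := hRfix _ hle hne (fun g hg => hnc g (hHR g hg) (hHC g hg))
      (fun g hg => hnc g (hTR g hg) (hCT g hg)) (fun g hg => hnc g (hBR g hg) (hBC g hg))
    have h1 : ⁅⁅R, C⁆, H⁆ = ⊥ := by
      rw [Subgroup.commutator_eq_bot_iff_le_centralizer]
      intro z hz
      refine Subgroup.mem_centralizer_iff.mpr fun h hh => ?_
      conv_rhs => rw [← hfix h hh z hz]
      group
    have h2 : ⁅⁅C, H⁆, R⁆ = ⊥ := by
      rw [Subgroup.commutator_eq_bot_iff_le_centralizer.mpr (inf_le_right : C ≤ _)]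
      exact Subgroup.commutator_bot_left R
    have h3 := Subgroup.commutator_commutator_eq_bot_of_rotate h1 h2
    intro x hx c hc
    have hRle : R ≤ ⁅H, R⁆ := by
      intro y hy
      have : (⟨y, hy⟩ : R) ∈ DR := hDRtop ▸ Subgroup.mem_top _
      have hle2 : DR ≤ (⁅H, R⁆).comap R.subtype := by
        rw [hDR, Subgroup.closure_le]
        rintro _ ⟨⟨h, z⟩, rfl⟩
        show ((z⁻¹ * aR h z : R) : G) ∈ ⁅H, R⁆
        rw [Subgroup.coe_mul, Subgroup.coe_inv, cjHom_apply, Subgroup.commutator_comm H R,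
          show (z : G)⁻¹ * ((h : G) * z * (h : G)⁻¹) = ⁅(z : G)⁻¹, (h : G)⁆ by
            rw [commutatorElement_def]; group]
        exact Subgroup.commutator_mem_commutator (inv_mem z.2) h.2
      exact hle2 this
    rw [Subgroup.commutator_eq_bot_iff_le_centralizer] at h3
    exact (Subgroup.mem_centralizer_iff.mp (h3 (hRle hx)) c hc).symm
  have hCE : C ≤ E := by
    intro c hc
    by_contra hcE
    obtain ⟨k, hk⟩ := hT ⟨c, hc.1⟩
    have hk' : c ^ 2 ^ k = 1 := congrArg Subtype.val hk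
    obtain ⟨m, hm, hmin⟩ : ∃ m, c ^ 2 ^ (m + 1) ∈ E ∧ c ^ 2 ^ m ∉ E := by
      by_contra hall
      push Not at hall
      have : ∀ i, c ^ 2 ^ (k - i) ∈ E := by
        intro i
        induction i with
        | zero => rw [Nat.sub_zero, hk']; exact one_mem _
        | succ i ih =>
          rcases Nat.lt_or_ge i k with h | h
          · exact hall _ (by rwa [show k - (i + 1) + 1 = k - i by omega])
          · rwa [show k - (i + 1) = k - i by omega]
      exact hcE (by simpa using this k)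
    set c' := c ^ 2 ^ m with hc'
    have hc'C : c' ∈ C := pow_mem hc _
    have hc'2 : c' ^ 2 ∈ E := by rw [hc', ← pow_mul, ← pow_succ]; exact hm
    have hc'1 : c' ^ 2 ≠ 1 := fun h => hmin (hinv _ h)
    have hx2 : x₀ ^ 2 ≠ 1 := fun h => hx₀E (hinv _ h)
    obtain ⟨b, hb, hbe⟩ := htrans _ hc'2 _ (hRsq ⟨x₀, hx₀⟩) hc'1 hx2
    set c'' := b * c' * b⁻¹ with hc''
    have hc''C : c'' ∈ C := hBC b hb c' hc'C
    have hsq : c'' ^ 2 = x₀ ^ 2 := by rw [hc'', conj_pow]; exact hbe
    have hz : x₀ * c''⁻¹ ∈ E := hinv _ (by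
      have hcomm : Commute x₀ c''⁻¹ := (Commute.inv_right (hRC x₀ hx₀ c'' hc''C))
      rw [hcomm.mul_pow, inv_pow, hsq, mul_inv_cancel])
    have hx₀C : x₀ ∈ C := by simpa using mul_mem (hEC hz) hc''C
    exact hx₀ne (by rw [Subgroup.mem_centralizer_iff.mp hx₀C.2 h₀ hh₀, mul_inv_cancel_right])
  -- squares in `T`
  have hTsq : ∀ t ∈ T, t ^ 2 ∈ E := by
    intro t ht
    set T' := (frattini T ⊔ E.subgroupOf T).map T.subtype with hT'
    have hne : T' ≠ T := by
      intro h
      have htop : frattini T ⊔ E.subgroupOf T = ⊤ := Subgroup.map_injective T.subtype_injective (by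
        rw [← MonoidHom.range_eq_map, Subgroup.range_subtype]; exact h)
      rw [sup_comm] at htop
      have h1 := frattini_nongenerating htop
      rw [Subgroup.subgroupOf_eq_top] at h1
      exact hmove fun s hs => (hEC (h1 hs)).2
    have hmapE : (E.subgroupOf T).map T.subtype = E := by
      rw [Subgroup.subgroupOf_map_subtype, inf_eq_left.mpr hET]
    have hcent := hTmin T' (by
      rw [hT', Subgroup.map_sup, hmapE]; exact le_sup_right) (Subgroup.map_subtype_le _) hne (by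
      intro b hb x hx
      rw [hT', Subgroup.map_sup, hmapE] at hx ⊢
      have hle : (frattini T).map T.subtype ⊔ E ≤
          ((frattini T).map T.subtype ⊔ E).comap (MulAut.conj b).toMonoidHom :=
        sup_le (fun y hy => Subgroup.mem_sup_left (hBT.map_char (frattini T) b hb y hy))
          (fun y hy => Subgroup.mem_sup_right (hEn b y hy))
      exact hle hx)
    have hmem : t ^ 2 ∈ T' :=
      ⟨⟨t, ht⟩ ^ 2, Subgroup.mem_sup_left (pow_mem_frattini hT _), rfl⟩
    exact hCE ⟨pow_mem ht 2, hcent hmem⟩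
  obtain ⟨t₁, ht₁, ht₁E⟩ : ∃ t ∈ T, t ∉ E := by
    by_contra hall
    push Not at hall
    exact hmove fun t ht => (hEC (hall t ht)).2
  -- the hyperplanes
  let P : Subgroup T → Prop := fun K => ∃ y : H ⧸ Φ, y ≠ 1 ∧ (∀ t ∈ K, act t y = y) ∧
    ∀ t ∉ K, act t y = y⁻¹
  have hsq1 : ∀ y : H ⧸ Φ, y⁻¹ = y → y = 1 := fun y hy => by
    have h1 : y ^ 2 = 1 := by rw [sq]; nth_rewrite 1 [← hy]; exact inv_mul_cancel y
    have h2 := pow_gcd_eq_one.mpr (⟨hexp y, h1⟩ : y ^ r = 1 ∧ y ^ 2 = 1)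
    rwa [hcop.gcd_eq_one, pow_one] at h2
  have hsqt : ∀ (t : T) (y : H ⧸ Φ), act t (act t y) = y := by
    intro t y
    induction y using QuotientGroup.induction_on with
    | H x =>
      rw [← MulAut.mul_apply, ← map_mul, ← sq]
      show ((aT (t ^ 2) x : H) : H ⧸ Φ) = x
      congr 1
      refine Subtype.ext ?_
      rw [cjHom_apply, Subgroup.coe_pow, ← hHE x x.2 _ (hTsq t t.2), mul_inv_cancel_right]
  have hcommact : ∀ (s t : T) (y : H ⧸ Φ), act s (act t y) = act t (act s y) := by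
    intro s t y
    have h1 := hsqt (s * t) (act t (act s y))
    rw [map_mul, MulAut.mul_apply, MulAut.mul_apply, hsqt, hsqt] at h1
    exact h1
  obtain ⟨K₁, hK₁⟩ : ∃ K, P K := by
    let F : Subgroup T → Prop := fun K => ∃ y : H ⧸ Φ, y ≠ 1 ∧ ∀ t ∈ K, act t y = y
    haveI : Nontrivial (H ⧸ Φ) := QuotientGroup.nontrivial_iff.mpr hΦne
    obtain ⟨u, hu⟩ := exists_ne (1 : H ⧸ Φ)
    obtain ⟨K, hK⟩ := Set.Finite.exists_maximal {K | F K}.toFinite ⟨⊥, u, hu, fun t ht => by
      rw [Subgroup.mem_bot.mp ht, map_one, MulAut.one_apply]⟩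
    obtain ⟨y, hy1, hyK⟩ := hK.prop
    obtain ⟨s₀, hs₀⟩ : ∃ s, act s y ≠ y := by
      by_contra hall
      push Not at hall
      exact hy1 (hnofixH y hall)
    set y' := y * (act s₀ y)⁻¹ with hy'
    have hy'1 : y' ≠ 1 := fun h => hs₀ (mul_inv_eq_one.mp h).symm
    have hy'K : ∀ t ∈ K, act t y' = y' := fun t ht => by
      rw [hy', map_mul, map_inv, hyK t ht, hcommact, hyK t ht]
    have hy's₀ : act s₀ y' = y'⁻¹ := by
      rw [hy', map_mul, map_inv, hsqt, mul_inv, inv_inv, mul_comm]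
    let K' : Subgroup T :=
      { carrier := {t | act t y' = y'}
        one_mem' := by simp
        mul_mem' := fun {a b} ha hb => by
          show act (a * b) y' = y'
          rw [show act (a * b) = act a * act b from map_mul _ _ _, MulAut.mul_apply, show act b y' = y' from hb, show act a y' = y' from ha]
        inv_mem' := fun {a} ha => by
          show act a⁻¹ y' = y'
          nth_rewrite 1 [← (show act a y' = y' from ha)]
          rw [← MulAut.mul_apply, ← map_mul, inv_mul_cancel, map_one, MulAut.one_apply] }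
    refine ⟨K', y', hy'1, fun t ht => ht, fun t ht => ?_⟩
    set z := y' * act t y' with hz
    have hz1 : z = 1 := by
      by_contra hzne
      have hle : K' ⊔ Subgroup.zpowers t ≤ K' := by
        refine hK.le_of_ge (y := K' ⊔ Subgroup.zpowers t) ⟨z, hzne, fun w hw => ?_⟩
          ((show K ≤ K' from hy'K).trans le_sup_left) |>.trans (show K ≤ K' from hy'K)
        let Kz : Subgroup T :=
          { carrier := {w | act w z = z}
            one_mem' := by simp
            mul_mem' := fun {a b} ha hb => by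
              show act (a * b) z = z
              rw [show act (a * b) = act a * act b from map_mul _ _ _, MulAut.mul_apply, show act b z = z from hb, show act a z = z from ha]
            inv_mem' := fun {a} ha => by
              show act a⁻¹ z = z
              nth_rewrite 1 [← (show act a z = z from ha)]
              rw [← MulAut.mul_apply, ← map_mul, inv_mul_cancel, map_one, MulAut.one_apply] }
        have hsup : K' ⊔ Subgroup.zpowers t ≤ Kz := sup_le (fun w hw => by
          show act w z = z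
          rw [hz, map_mul, show act w y' = y' from hw, hcommact, show act w y' = y' from hw])
          (Subgroup.zpowers_le.mpr (by
            show act t z = z
            rw [hz, map_mul, hsqt, mul_comm]))
        exact hsup hw
      exact ht (hle (Subgroup.mem_sup_right (Subgroup.mem_zpowers t)))
    exact (eq_inv_of_mul_eq_one_right hz1)
  -- their intersection
  let ι := {K : Subgroup T // P K}
  haveI : Finite ι := Subtype.finite
  haveI := Fintype.ofFinite ι
  choose y hy1 hyfix hyneg using fun i : ι => i.2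
  have hPB : ∀ (b : B) (K : Subgroup T), P K → P (K.comap (bT b).toMonoidHom) := by
    rintro b K ⟨u, hu1, hufix, huneg⟩
    let β := onQuot (aB b) Φ (mem_iff_of_char _ Φ)
    have hβ : ∀ (t : T) (w : H ⧸ Φ), β (act t w) = act (bT b t) (β w) := fun t w => by
      induction w using QuotientGroup.induction_on with
      | H x =>
        show ((aB b (aT t x) : H) : H ⧸ Φ) = ((aT (bT b t) (aB b x) : H) : H ⧸ Φ)
        rw [hequiv]
    refine ⟨β.symm u, fun h => hu1 (by
      rw [← β.apply_symm_apply u, h, map_one]), fun t ht => β.injective ?_, fun t ht => β.injective ?_⟩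
    · rw [hβ, MulEquiv.apply_symm_apply, hufix (bT b t) ht]
    · rw [hβ, MulEquiv.apply_symm_apply, huneg (bT b t) ht, map_inv, MulEquiv.apply_symm_apply]
  set I : Subgroup T := ⨅ i : ι, (i : Subgroup T) with hI
  have hIE : I.map T.subtype ≤ E := by
    have hIne : I ≠ ⊤ := fun h => by
      have hall : ∀ t : T, t ∈ (⟨K₁, hK₁⟩ : ι).1 := fun t =>
        Subgroup.mem_iInf.mp (show t ∈ I from h ▸ Subgroup.mem_top t) ⟨K₁, hK₁⟩
      exact hy1 ⟨K₁, hK₁⟩ (hnofixH _ fun t => hyfix _ t (hall t))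
    have hcent := hTmin (I.map T.subtype) (fun e he => ⟨⟨e, hET he⟩, Subgroup.mem_iInf.mpr fun i => by
        by_contra hn
        refine hy1 i (hsq1 _ ?_)
        rw [← hyneg i _ hn]
        induction (y i) using QuotientGroup.induction_on with
        | H x =>
          show ((aT ⟨e, hET he⟩ x : H) : H ⧸ Φ) = (x : H ⧸ Φ)
          congr 1
          refine Subtype.ext ?_
          rw [cjHom_apply]
          show e * (x : G) * e⁻¹ = x
          rw [← hHE x x.2 e he, mul_inv_cancel_right], rfl⟩) (Subgroup.map_subtype_le _)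
      (fun h => hIne (Subgroup.map_injective T.subtype_injective (by
        rw [← MonoidHom.range_eq_map, Subgroup.range_subtype]; exact h)))
      (fun b hb x hx => by
        obtain ⟨t, ht, rfl⟩ := hx
        refine ⟨bT ⟨b, hb⟩ t, Subgroup.mem_iInf.mpr fun i => ?_, rfl⟩
        exact Subgroup.mem_iInf.mp ht ⟨_, hPB ⟨b, hb⟩ i i.2⟩)
    exact fun x hx => hCE ⟨Subgroup.map_subtype_le _ hx, hcent hx⟩
  set E' := E.subgroupOf T with hE'
  have hmem_iff : ∀ (i : ι) (t s : T), (t ∈ (i : Subgroup T) ↔ s ∈ (i : Subgroup T)) → t⁻¹ * s ∈ (i : Subgroup T) := by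
    intro i t s hts
    by_cases ht : t ∈ (i : Subgroup T)
    · exact mul_mem (inv_mem ht) (hts.mp ht)
    · by_contra hn
      refine hy1 i (hsq1 _ ?_)
      rw [← hyneg i _ hn, map_mul, MulAut.mul_apply, hyneg i s (mt hts.mpr ht),
        hyneg i t⁻¹ (fun h => ht (by simpa using inv_mem h)) |> fun h => (map_inv (act t⁻¹) (y i)).trans (by rw [h, inv_inv])]
  haveI hE'n : E'.Normal := ⟨fun n hn g => hEn g n hn⟩
  let χ : T ⧸ E' → (ι → Bool) := fun a i => decide (a.out ∈ (i : Subgroup T))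
  have hEmem : ∀ e : T, e ∈ E' → ∀ i : ι, e ∈ (i : Subgroup T) := fun e he i => by
    by_contra hn
    refine hy1 i (hsq1 _ ?_)
    rw [← hyneg i _ hn]
    induction (y i) using QuotientGroup.induction_on with
    | H x =>
      show ((aT e x : H) : H ⧸ Φ) = (x : H ⧸ Φ)
      congr 1
      exact Subtype.ext (by rw [cjHom_apply, ← hHE x x.2 (e : G) he, mul_inv_cancel_right])
  have hχ : ∀ (t : T) (i : ι), χ (t : T ⧸ E') i = decide (t ∈ (i : Subgroup T)) := fun t i => by
    obtain ⟨e, he⟩ := QuotientGroup.mk_out_eq_mul E' t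
    simp only [χ, he]
    exact decide_eq_decide.mpr ((i : Subgroup T).mul_mem_cancel_right (hEmem _ e.2 i))
  have hχinj : Function.Injective χ := by
    intro a b hab
    induction a using QuotientGroup.induction_on with
    | H t =>
    induction b using QuotientGroup.induction_on with
    | H s =>
    rw [QuotientGroup.eq]
    refine hIE ⟨t⁻¹ * s, Subgroup.mem_iInf.mpr fun i => hmem_iff i t s ?_, rfl⟩
    have h1 := congrFun hab i
    rw [hχ, hχ] at h1
    simpa using h1
  have hTquot : Nat.card (T ⧸ E') ≤ 2 ^ Nat.card ι := by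
    refine (Nat.card_le_card_of_injective χ hχinj).trans (le_of_eq ?_)
    rw [Nat.card_fun, Nat.card_eq_fintype_card (α := Bool), Fintype.card_bool]
  have hsqE' : ∀ (t : T) (e : T), e ∈ E' → ((t * e : T) : G) ^ 2 = (t : G) ^ 2 := fun t e he => by
    have he' : (e : G) ∈ E := he
    rw [Subgroup.coe_mul, Commute.mul_pow (hTE t t.2 _ he'), hE2 _ he', mul_one]
  have hEle : Nat.card E ≤ Nat.card (T ⧸ E') := by
    refine Nat.card_le_card_of_surjective (fun a : T ⧸ E' => (⟨((a.out : T) : G) ^ 2, hTsq _ a.out.2⟩ : E))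
      fun e => ?_
    suffices h : ∃ t ∈ T, t ^ 2 = (e : G) by
      obtain ⟨t, ht, hte⟩ := h
      refine ⟨((⟨t, ht⟩ : T) : T ⧸ E'), Subtype.ext ?_⟩
      obtain ⟨d, hd⟩ := QuotientGroup.mk_out_eq_mul E' (⟨t, ht⟩ : T)
      show (((QuotientGroup.mk (⟨t, ht⟩ : T) : T ⧸ E').out : T) : G) ^ 2 = e
      rw [hd, hsqE' _ _ d.2, hte]
    by_cases he : (e : G) = 1
    · exact ⟨1, one_mem _, by rw [one_pow, he]⟩
    obtain ⟨b, hb, hbe⟩ := htrans _ (hTsq t₁ ht₁) _ e.2 (fun h => ht₁E (hinv _ h)) he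
    exact ⟨b * t₁ * b⁻¹, hBT b hb t₁ ht₁, by rw [conj_pow]; exact hbe⟩
  -- commuting representatives
  choose hK hhK using fun i : ι => QuotientGroup.mk_surjective (y i)
  have hsep : ∀ i j : ι, i ≠ j → ∃ t : T, ¬ (t ∈ (i : Subgroup T) ↔ t ∈ (j : Subgroup T)) := by
    intro i j hij
    by_contra hall
    push Not at hall
    exact hij (Subtype.ext (Subgroup.ext hall))
  have hkey : ∀ (i j : ι) (t : T), t ∈ (i : Subgroup T) → t ∉ (j : Subgroup T) → ⁅hK i, hK j⁆ = 1 := by
    intro i j t hti htj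
    have h1 : aT t ⁅hK i, hK j⁆ = ⁅hK i, hK j⁆ := hΦfix t _ (hcommΦ _ _)
    rw [map_commutatorElement] at h1
    have hfi : (hK i)⁻¹ * aT t (hK i) ∈ Φ := QuotientGroup.eq.mp (by
      show (hK i : H ⧸ Φ) = act t (hK i : H ⧸ Φ)
      rw [hhK, hyfix i t hti])
    have hfj : hK j * aT t (hK j) ∈ Φ := by
      have e1 : ((hK j)⁻¹ : H)⁻¹ * aT t (hK j) ∈ Φ := QuotientGroup.eq.mp (by
        show (((hK j)⁻¹ : H) : H ⧸ Φ) = act t (hK j : H ⧸ Φ)
        rw [QuotientGroup.mk_inv, hhK, hyneg j t htj])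
      rwa [inv_inv] at e1
    set f := (hK i)⁻¹ * aT t (hK i) with hf
    set g := hK j * aT t (hK j) with hg
    have ei : aT t (hK i) = hK i * f := (mul_inv_cancel_left _ _).symm
    have ej : aT t (hK j) = (hK j)⁻¹ * g := (inv_mul_cancel_left _ _).symm
    have hfc := Subgroup.mem_center_iff.mp (hΦcen hfi)
    have hgc := Subgroup.mem_center_iff.mp (hΦcen hfj)
    have h2 : ⁅hK i * f, (hK j)⁻¹ * g⁆ = ⁅hK i, (hK j)⁻¹⁆ := commutator_central hfc hgc _ _
    rw [ei, ej, h2] at h1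
    have hcen : ⁅hK i, hK j⁆ * hK j = hK j * ⁅hK i, hK j⁆ :=
      (Subgroup.mem_center_iff.mp (hΦcen (hcommΦ _ _)) (hK j)).symm
    have h3 : ⁅hK i, (hK j)⁻¹⁆ = ⁅hK i, hK j⁆⁻¹ := by
      have e : ⁅hK i, (hK j)⁻¹⁆ = (hK j)⁻¹ * ⁅hK i, hK j⁆⁻¹ * hK j := by
        simp [commutatorElement_def, mul_assoc]
      rw [e]
      have h4 : ⁅hK i, hK j⁆⁻¹ * hK j = hK j * ⁅hK i, hK j⁆⁻¹ :=
        (Subgroup.mem_center_iff.mp (inv_mem (hΦcen (hcommΦ _ _))) (hK j)).symm
      rw [mul_assoc, h4, inv_mul_cancel_left]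
    rw [h3] at h1
    have h5 : ⁅hK i, hK j⁆ ^ 2 = 1 := by rw [sq]; nth_rewrite 1 [← h1]; exact inv_mul_cancel _
    obtain ⟨l, hl⟩ := hH ⁅hK i, hK j⁆
    have h6 := pow_gcd_eq_one.mpr (⟨hl, h5⟩ : ⁅hK i, hK j⁆ ^ r ^ l = 1 ∧ ⁅hK i, hK j⁆ ^ 2 = 1)
    rwa [(hcop.pow_left l).gcd_eq_one, pow_one] at h6
  have hpair : ∀ i j : ι, hK i * hK j = hK j * hK i := by
    intro i j
    by_cases hij : i = j
    · rw [hij]
    obtain ⟨t, ht⟩ := hsep i j hij
    by_cases hti : t ∈ (i : Subgroup T)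
    · exact commutatorElement_eq_one_iff_mul_comm.mp (hkey i j t hti fun h => ht (iff_of_true hti h))
    · exact (commutatorElement_eq_one_iff_mul_comm.mp
        (hkey j i t (by by_contra h; exact ht (iff_of_false hti h)) hti)).symm
  set A := Subgroup.closure (Set.range hK) with hA
  have hAcomm : ∀ a b : A, a * b = b * a := by
    have h1 : A ≤ Subgroup.centralizer (A : Set H) := by
      rw [hA, Subgroup.centralizer_closure, Subgroup.closure_le]
      rintro _ ⟨i, rfl⟩
      refine Subgroup.mem_centralizer_iff.mpr ?_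
      rintro _ ⟨j, rfl⟩
      exact hpair j i
    exact fun a b => Subtype.ext ((Subgroup.mem_centralizer_iff.mp (h1 b.2) _ a.2))
  letI : CommGroup A := { (inferInstance : Group A) with mul_comm := hAcomm }
  -- the action on `R` modulo `E`
  set ER := E.subgroupOf R with hER
  haveI : ER.Normal := ⟨fun n hn g => hEn g n hn⟩
  letI : CommGroup (R ⧸ ER) :=
    { (inferInstance : Group (R ⧸ ER)) with
      mul_comm := fun a b => by
        have h : ∀ c : R ⧸ ER, c⁻¹ = c := fun c => inv_eq_of_mul_eq_one_right (by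
          induction c using QuotientGroup.induction_on with
          | H x =>
            rw [← QuotientGroup.mk_mul, QuotientGroup.eq_one_iff]
            show ((x * x : R) : G) ∈ E
            rw [Subgroup.coe_mul, ← sq]; exact hRsq x)
        calc a * b = (a * b)⁻¹ := (h _).symm
          _ = b * a := by rw [mul_inv_rev, h, h] }
  have hERiff : ∀ (h : H) (x : R), x ∈ ER ↔ aR h x ∈ ER := fun h x => by
    show (x : G) ∈ E ↔ (h : G) * x * (h : G)⁻¹ ∈ E
    refine ⟨fun hx => hEn _ _ hx, fun hx => ?_⟩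
    have := hEn (h : G)⁻¹ _ hx
    simpa [mul_assoc] using this
  let fR : A →* MulAut (R ⧸ ER) := MonoidHom.mk' (fun a => onQuot (aR (a : H)) ER (hERiff _))
    fun a b => by
      refine MulEquiv.ext fun v => ?_
      induction v using QuotientGroup.induction_on with
      | H x =>
        show ((aR ((a * b : A) : H) x : R) : R ⧸ ER) = ((aR (a : H) (aR (b : H) x) : R) : R ⧸ ER)
        rw [Subgroup.coe_mul, map_mul, MulAut.mul_apply]
  let gA : A →* H ⧸ Φ := (QuotientGroup.mk' Φ).comp A.subtype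
  have hker : fR.ker ≤ gA.ker := by
    intro a ha
    rw [MonoidHom.mem_ker]
    -- `a` centralises `R`
    have hcen : ∀ x ∈ R, ((a : H) : G) * x * ((a : H) : G)⁻¹ = x := by
      intro x hx
      have h1 : (⟨x, hx⟩ : R)⁻¹ * aR (a : H) ⟨x, hx⟩ ∈ ER :=
        QuotientGroup.eq.mp (MulEquiv.congr_fun (MonoidHom.mem_ker.mp ha) ((⟨x, hx⟩ : R) : R ⧸ ER)).symm
      have h1' : x⁻¹ * (((a : H) : G) * x * ((a : H) : G)⁻¹) ∈ E := h1
      have h2 := displacement_trivial hr2 hH hR2 (a : H).2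
        (show x⁻¹ * (((a : H) : G) * x * ((a : H) : G)⁻¹) ∈ R from
          mul_mem (inv_mem hx) (hHR _ (a : H).2 x hx))
        (mul_inv_cancel_left x _).symm (by rw [hHE _ (a : H).2 _ h1', mul_inv_cancel_right])
      exact (inv_mul_eq_one.mp h2).symm
    set HK := H ⊓ Subgroup.centralizer (R : Set G) with hHK
    have hHKne : HK ≠ H := fun h => hRmove (h ▸ inf_le_right)
    have hnormK : ∀ (g : G), (∀ h ∈ H, g * h * g⁻¹ ∈ H) → (∀ x ∈ R, g⁻¹ * x * g ∈ R) →
        ∀ k ∈ HK, g * k * g⁻¹ ∈ HK := fun g hgH hgR k hk => ⟨hgH k hk.1,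
      Subgroup.mem_centralizer_iff.mpr fun x hx => by
        have h2 := Subgroup.mem_centralizer_iff.mp hk.2 _ (hgR x hx)
        calc x * (g * k * g⁻¹) = g * ((g⁻¹ * x * g) * k) * g⁻¹ := by group
          _ = g * k * g⁻¹ * x := by rw [h2]; group⟩
    have hTcent := hHmin HK inf_le_left hHKne
      (fun g hg => hnormK g (hTH g hg) fun x hx => by simpa using hTR _ (inv_mem hg) x hx)
      (fun g hg => hnormK g (hBH g hg) fun x hx => by simpa using hBR _ (inv_mem hg) x hx)
    refine hnofixH _ fun t => ?_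
    show ((aT t (a : H) : H) : H ⧸ Φ) = ((a : H) : H ⧸ Φ)
    congr 1
    refine Subtype.ext ?_
    rw [cjHom_apply, ← Subgroup.mem_centralizer_iff.mp (hTcent t.2) ((a : H) : G)
      ⟨(a : H).2, Subgroup.mem_centralizer_iff.mpr fun x hx => by
        conv_lhs => rw [← hcen x hx]
        group⟩, mul_inv_cancel_right]
  -- counting
  have hlower : r ^ Nat.card ι ≤ Nat.card gA.range := by
    have hymem : ∀ i, y i ∈ gA.range := fun i => ⟨⟨hK i, Subgroup.subset_closure ⟨i, rfl⟩⟩, hhK i⟩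
    let Ψ : (ι → Fin r) → gA.range := fun a => ∏ i, (⟨y i, hymem i⟩ : gA.range) ^ (a i : ℕ)
    have hΨinj : Function.Injective Ψ := by
      intro a b hab
      funext i
      have h1 : ∏ j, y j ^ (a j : ℕ) = ∏ j, y j ^ (b j : ℕ) := by
        have := congrArg Subtype.val hab
        simp only [Ψ] at this
        rw [← Subgroup.coe_subtype, map_prod, map_prod] at this
        simpa using this
      have h2 : ∏ j, y j ^ ((a j : ℕ) + (r - (b j : ℕ))) = 1 := by
        simp only [pow_add, Finset.prod_mul_distrib]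
        rw [h1, ← Finset.prod_mul_distrib]
        refine Finset.prod_eq_one fun j _ => ?_
        rw [← pow_add, Nat.add_sub_cancel' (b j).2.le, hexp]
      have h3 := pow_eq_one_of_prod hr2 hexp (fun t => act t) y (fun i t => t ∈ (i : Subgroup T))
        hyfix hyneg hsep Finset.univ (fun j => (a j : ℕ) + (r - (b j : ℕ))) h2 i (Finset.mem_univ i)
      have h4 : orderOf (y i) = r := orderOf_eq_prime (hexp _) (hy1 i)
      have h5 : y i ^ (a i : ℕ) = y i ^ (b i : ℕ) := by
        rw [← one_mul (y i ^ (b i : ℕ)), ← h3, ← pow_add, add_assoc, Nat.sub_add_cancel (b i).2.le,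
          pow_add, hexp, mul_one]
      exact Fin.ext (pow_injOn_Iio_orderOf (Set.mem_Iio.mpr (h4.symm ▸ (a i).2))
        (Set.mem_Iio.mpr (h4.symm ▸ (b i).2)) h5)
    have := Nat.card_le_card_of_injective Ψ hΨinj
    rwa [Nat.card_fun, Nat.card_eq_fintype_card (α := Fin r), Fintype.card_fin] at this
  letI : CommGroup fR.range :=
    { (inferInstance : Group fR.range) with
      mul_comm := fun a b => by
        obtain ⟨u, hu⟩ := a.2
        obtain ⟨v, hv⟩ := b.2
        refine Subtype.ext ?_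
        rw [Subgroup.coe_mul, Subgroup.coe_mul, ← hu, ← hv, ← map_mul, ← map_mul, mul_comm] }
  have hΩ := card_range_le_omega (r := r) fR.rangeRestrict fR.rangeRestrict_surjective gA
    (by rw [MonoidHom.ker_rangeRestrict]; exact hker) (fun a => by rw [map_pow]; exact hexp _)
  have hupper := four_pow_le hr2 (Nat.card ι) (R ⧸ ER) (hR2.to_quotient ER)
    (powMonoidHom r : fR.range →* fR.range).ker
    (fR.range.subtype.comp (Subgroup.subtype _)) (Subtype.val_injective.comp Subtype.val_injective)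
    (fun a => Subtype.ext a.2) (hlower.trans hΩ)
  have hsqbound := card_quotient_le_sq R E hE2 (fun x _ h => hinv x h)
    (fun x hx e he => hQE x (hRQ hx) e he) (fun x hx => hRsq ⟨x, hx⟩)
  have hm2 : 2 ^ Nat.card ι ≤ Nat.card E := by
    have h1 : (2 ^ Nat.card ι) ^ 2 ≤ Nat.card E ^ 2 := by
      rw [← pow_mul, mul_comm, pow_mul]
      exact hupper.trans hsqbound
    exact (Nat.pow_le_pow_iff_left two_ne_zero).mp h1
  have hbij : Function.Bijective χ := (Nat.bijective_iff_injective_and_card χ).mpr ⟨hχinj, by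
    rw [Nat.card_fun, Nat.card_eq_fintype_card (α := Bool), Fintype.card_bool]
    exact le_antisymm hTquot (hm2.trans hEle)⟩
  obtain ⟨a₀, ha₀⟩ := hbij.2 fun _ => false
  obtain ⟨t₀, rfl⟩ := QuotientGroup.mk_surjective a₀
  have ht₀ : ∀ i : ι, t₀ ∉ (i : Subgroup T) := fun i => by
    have := congrFun ha₀ i
    rw [hχ] at this
    simpa using this
  have ht₀E : (t₀ : G) ∉ E := fun h => ht₀ ⟨K₁, hK₁⟩ (hEmem t₀ h _)
  refine ht₀E (hinv _ (hnofix _ (hTsq _ t₀.2) fun b hb => ?_))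
  have h1 : (((bT ⟨b, hb⟩ t₀ : T)) : T ⧸ E') = (t₀ : T ⧸ E') := hχinj (funext fun i => by
    rw [hχ, ha₀]
    exact decide_eq_false fun h => ht₀ ⟨_, hPB ⟨b, hb⟩ i i.2⟩ h)
  obtain ⟨e, he, hte⟩ : ∃ e ∈ E', bT ⟨b, hb⟩ t₀ = t₀ * e :=
    ⟨t₀⁻¹ * bT ⟨b, hb⟩ t₀, QuotientGroup.eq.mp h1.symm, (mul_inv_cancel_left _ _).symm⟩
  calc b * (t₀ : G) ^ 2 * b⁻¹ = ((bT ⟨b, hb⟩ t₀ : T) : G) ^ 2 := by rw [cjHom_apply, conj_pow]
    _ = (t₀ : G) ^ 2 := by rw [hte, hsqE' _ _ he]

/-- The configuration does not exist. -/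
theorem no_config {r : ℕ} [hr : Fact r.Prime] (hr2 : r ≠ 2) (E Q T H B : Subgroup G)
    (hE2 : ∀ e ∈ E, e ^ 2 = 1) (hinv : ∀ x : G, x ^ 2 = 1 → x ∈ E) (hQ : IsPGroup 2 Q)
    (hT : IsPGroup 2 T) (hH : IsPGroup r H) (hET : E ≤ T)
    (hQE : ∀ q ∈ Q, ∀ e ∈ E, q * e = e * q) (hHE : ∀ h ∈ H, ∀ e ∈ E, h * e = e * h)
    (hHQ : Norms H Q) (hTQ : Norms T Q) (hBQ : Norms B Q) (hTH : Norms T H) (hBH : Norms B H)
    (hBT : Norms B T) (hfaith : ∀ h ∈ H, (∀ q ∈ Q, h * q = q * h) → h = 1)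
    (hmove : ¬ T ≤ Subgroup.centralizer (H : Set G))
    (htrans : ∀ e ∈ E, ∀ f ∈ E, e ≠ 1 → f ≠ 1 → ∃ b ∈ B, b * e * b⁻¹ = f)
    (htwo : ∃ e ∈ E, ∃ f ∈ E, e ≠ 1 ∧ f ≠ 1 ∧ e ≠ f) : False := by
  obtain ⟨T₁, hT₁⟩ := exists_minimal_of_wellFoundedLT
    (fun T₁ : Subgroup G => E ≤ T₁ ∧ T₁ ≤ T ∧ Norms B T₁ ∧ ¬ T₁ ≤ Subgroup.centralizer (H : Set G))
    ⟨T, hET, le_rfl, hBT, hmove⟩
  obtain ⟨hET₁, hT₁T, hBT₁, hmove₁⟩ := hT₁.prop
  obtain ⟨H₁, hH₁⟩ := exists_minimal_of_wellFoundedLT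
    (fun H₁ : Subgroup G => H₁ ≤ H ∧ Norms T₁ H₁ ∧ Norms B H₁ ∧
      ¬ T₁ ≤ Subgroup.centralizer (H₁ : Set G))
    ⟨H, le_rfl, fun t ht => hTH t (hT₁T ht), hBH, hmove₁⟩
  obtain ⟨hH₁H, hTH₁, hBH₁, hmove₂⟩ := hH₁.prop
  refine no_config_minimal hr2 E Q T₁ H₁ B hE2 hinv hQ (hT.to_le hT₁T) (hH.to_le hH₁H) hET₁ hQE
    (fun h hh => hHE h (hH₁H hh)) (fun h hh => hHQ h (hH₁H hh)) (fun t ht => hTQ t (hT₁T ht)) hBQ
    hTH₁ hBH₁ hBT₁ (fun h hh => hfaith h (hH₁H hh)) hmove₂ (fun T' hE' hle hne hB => ?_)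
    (fun H' hle hne hT' hB => ?_) htrans htwo
  · by_contra hcon
    refine hne ?_
    have h1 := hT₁.eq_of_le ⟨hE', hle.trans hT₁T, hB, fun h => hcon
      (h.trans (Subgroup.centralizer_le hH₁H))⟩ hle
    first | exact h1 | exact h1.symm
  · by_contra hcon
    refine hne ?_
    have h1 := hH₁.eq_of_le ⟨hle.trans hH₁H, hT', hB, hcon⟩ hle
    first | exact h1 | exact h1.symm

end CfsgLib.PGroups.OneClass
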