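import Mathlib
import Cfsg.Agent.Lib.PGroups.OneClass.Config
import Cfsg.Agent.Lib.PGroups.FrattiniModule
import Cfsg.Agent.Lib.Core.SchurZassenhaus
import Cfsg.Agent.Lib.Core.SolvableStruct
import Cfsg.Agent.Lib.Components.FStar

/-!
# Soluble groups with one class of involutions

* `odd_index`: if `O(G) = 1` and the involutions, at least two, are conjugate, `O_2(G)` is Sylow
* `exists_lift`, `homocyclic`
-/

set_option autoImplicit false
set_option linter.all false

namespace CfsgLib.PGroups.OneClass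

open scoped Pointwise

variable {G : Type*} [Group G] [Finite G]

theorem solvable_centralizer_pPrimeCore_le [Group.IsSolvable G] (h : Cfsg.pCore 2 G = ⊥) :
    Cfsg.fittingSubgroup G ≤ Cfsg.pPrimeCore 2 G := by
  rw [CfsgLib.Core.fittingSubgroup_eq_iSup_pCore]
  refine iSup_le fun r => ?_
  by_cases hr : (r : ℕ) = 2
  · rw [hr, h]; exact bot_le
  · exact CfsgLib.Core.pCore_le_pPrimeCore_of_ne Nat.prime_two r.2 hr

set_option maxHeartbeats 800000 in
/-- `O_2(G)` has odd index. -/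
theorem odd_index (hG : Group.IsSolvable G) (hO : Cfsg.pPrimeCore 2 G = ⊥)
    (hconj : ∀ x y : G, x ≠ 1 → x ^ 2 = 1 → y ≠ 1 → y ^ 2 = 1 → IsConj x y)
    (htwo : ∃ x y : G, x ≠ y ∧ x ≠ 1 ∧ x ^ 2 = 1 ∧ y ≠ 1 ∧ y ^ 2 = 1) :
    Odd (Cfsg.pCore 2 G).index := by
  classical
  haveI := hG
  haveI : Fact (Nat.Prime 2) := ⟨Nat.prime_two⟩
  set Q := Cfsg.pCore 2 G with hQ
  have hQ2 : IsPGroup 2 Q := CfsgLib.Core.isPGroup_pCore 2 G
  have hCQ : Subgroup.centralizer (Q : Set G) ≤ Q :=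
    CfsgLib.Core.centralizer_pCore_le_of_pPrimeCore_eq_bot hO
  obtain ⟨x₀, y₀, hxy, hx₀1, hx₀2, hy₀1, hy₀2⟩ := htwo
  haveI hQnt : Nontrivial Q := by
    by_contra hn
    rw [not_nontrivial_iff_subsingleton] at hn
    refine hx₀1 ?_
    have h1 : Q = ⊥ := Subgroup.eq_bot_iff_forall _ |>.mpr fun x hx =>
      congrArg Subtype.val (Subsingleton.elim (⟨x, hx⟩ : Q) 1)
    have h2 : x₀ ∈ Q := hCQ (Subgroup.mem_centralizer_iff.mpr fun q hq => by
      rw [h1, SetLike.mem_coe, Subgroup.mem_bot] at hq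
      rw [hq, one_mul, mul_one])
    rwa [h1, Subgroup.mem_bot] at h2
  set Z := (Subgroup.center Q).map Q.subtype with hZ
  haveI : Q.Characteristic := by rw [hQ]; infer_instance
  haveI hZn : Z.Normal := by rw [hZ]; infer_instance
  obtain ⟨z, hz⟩ := exists_prime_orderOf_dvd_card' (G := Subgroup.center Q) 2 (by
    haveI := hQ2.center_nontrivial
    obtain ⟨k, hk⟩ := IsPGroup.iff_card.mp (hQ2.to_subgroup (Subgroup.center Q))
    rw [hk]
    exact dvd_pow_self 2 (fun h0 => by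
      rw [h0, pow_zero] at hk
      exact absurd hk (ne_of_gt Finite.one_lt_card)))
  have hinvZ : ∀ x : G, x ^ 2 = 1 → x ∈ Z := by
    intro x hx
    by_cases hx1 : x = 1
    · rw [hx1]; exact one_mem _
    have hz2 : (((z : Q) : G)) ^ 2 = 1 := by
      have := pow_orderOf_eq_one z
      rw [hz] at this
      exact congrArg (fun u : Subgroup.center Q => ((u : Q) : G)) this
    have hz1 : ((z : Q) : G) ≠ 1 := fun h => by
      rw [show z = 1 from Subtype.ext (Subtype.ext h), orderOf_one] at hz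
      exact absurd hz (by norm_num)
    obtain ⟨g, hg⟩ := isConj_iff.mp (hconj _ x hz1 hz2 hx1 hx)
    rw [← hg]
    exact hZn.conj_mem _ (Subgroup.mem_map_of_mem Q.subtype z.2) g
  have hZQ : ∀ q ∈ Q, ∀ e ∈ Z, q * e = e * q := by
    rintro q hq _ ⟨c, hc, rfl⟩
    exact congrArg Subtype.val (Subgroup.mem_center_iff.mp hc ⟨q, hq⟩)
  let E : Subgroup G :=
    { carrier := {x | x ^ 2 = 1}
      one_mem' := one_pow 2
      mul_mem' := fun {a b} ha hb => by
        have hc : Commute a b := hZQ a (Subgroup.map_subtype_le _ (hinvZ a ha)) b (hinvZ b hb)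
        show (a * b) ^ 2 = 1
        rw [hc.mul_pow, show a ^ 2 = 1 from ha, show b ^ 2 = 1 from hb, one_mul]
      inv_mem' := fun {a} ha => by
        show a⁻¹ ^ 2 = 1
        rw [inv_pow, show a ^ 2 = 1 from ha, inv_one] }
  have hEQ : E ≤ Q := fun e he => Subgroup.map_subtype_le _ (hinvZ e he)
  have hQE : ∀ q ∈ Q, ∀ e ∈ E, q * e = e * q := fun q hq e he => hZQ q hq e (hinvZ e he)
  haveI hEn : E.Normal := ⟨fun e he g => by
    show (g * e * g⁻¹) ^ 2 = 1
    rw [conj_pow, show e ^ 2 = 1 from he, mul_one, mul_inv_cancel]⟩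
  rw [← Nat.not_even_iff_odd]
  intro hev
  -- the odd part above `Q`
  let π := QuotientGroup.mk' Q
  set O := Cfsg.pPrimeCore 2 (G ⧸ Q) with hOdef
  have hO2 : Cfsg.pCore 2 (G ⧸ Q) = ⊥ := CfsgLib.Core.pCore_quotient_pCore 2 G
  set M0 := O.comap π with hM0
  haveI : M0.Normal := Subgroup.Normal.comap inferInstance _
  have hQM0 : Q ≤ M0 := fun q hq => by
    show π q ∈ O
    rw [show π q = 1 from (QuotientGroup.eq_one_iff _).mpr hq]
    exact one_mem _
  have hM0card : Nat.card M0 = Nat.card O * Nat.card Q := by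
    rw [(Q.subgroupOf M0).card_eq_card_quotient_mul_card_subgroup,
      Nat.card_congr (Subgroup.subgroupOfEquivOfLe hQM0).toEquiv]
    congr 1
    let f : M0 →* O := (π.comp M0.subtype).codRestrict O fun x => x.2
    have hf : Function.Surjective f := fun c => by
      obtain ⟨a, ha⟩ := QuotientGroup.mk'_surjective Q (c : G ⧸ Q)
      exact ⟨⟨a, show π a ∈ O by rw [show π a = _ from ha]; exact c.2⟩, Subtype.ext ha⟩
    have hk : f.ker = Q.subgroupOf M0 := by
      ext x
      rw [MonoidHom.mem_ker, Subgroup.mem_subgroupOf, ← QuotientGroup.eq_one_iff (N := Q)]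
      exact ⟨fun h => congrArg Subtype.val h, fun h => Subtype.ext h⟩
    rw [← hk]
    exact Nat.card_congr (QuotientGroup.quotientKerEquivOfSurjective f hf).toEquiv
  obtain ⟨a, ha⟩ := IsPGroup.iff_card.mp hQ2
  have hcopOQ : (Nat.card O).Coprime (Nat.card Q) := by
    rw [ha]; exact (CfsgLib.Core.coprime_card_pPrimeCore 2 (G ⧸ Q)).pow_right a
  obtain ⟨H', hH'⟩ := Subgroup.exists_right_complement'_of_coprime (N := Q.subgroupOf M0) (by
    have h1 := (Q.subgroupOf M0).card_mul_index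
    rw [Nat.card_congr (Subgroup.subgroupOfEquivOfLe hQM0).toEquiv, hM0card, mul_comm (Nat.card O)] at h1
    rw [Nat.eq_of_mul_eq_mul_left Nat.card_pos h1,
      Nat.card_congr (Subgroup.subgroupOfEquivOfLe hQM0).toEquiv]
    exact hcopOQ.symm)
  set H0 := H'.map M0.subtype with hH0
  have hH0card : Nat.card H0 = Nat.card O := by
    have h1 := hH'.card_mul
    rw [Nat.card_congr (Subgroup.subgroupOfEquivOfLe hQM0).toEquiv, hM0card, mul_comm (Nat.card O)] at h1
    rw [hH0, Subgroup.card_subtype]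
    exact Nat.eq_of_mul_eq_mul_left Nat.card_pos h1
  have hH0le : H0 ≤ M0 := Subgroup.map_subtype_le _
  have hcopH0 : (Nat.card H0).Coprime (Nat.card Q) := hH0card ▸ hcopOQ
  have hdisj : ∀ x ∈ H0, x ∈ Q → x = 1 := fun x hx hxQ => Subgroup.mem_bot.mp
    ((Subgroup.inf_eq_bot_of_coprime hcopH0).le ⟨hx, hxQ⟩)
  have hM0eq : M0 = H0 ⊔ Q := by
    refine le_antisymm (fun x hx => ?_) (sup_le hH0le hQM0)
    obtain ⟨⟨q, h⟩, hqh⟩ := hH'.2 ⟨x, hx⟩
    have h1 : ((q : M0) : G) * ((h : M0) : G) = x := congrArg Subtype.val hqh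
    rw [← h1]
    exact mul_mem (Subgroup.mem_sup_right q.2) (Subgroup.mem_sup_left (Subgroup.mem_map_of_mem _ h.2))
  set N0 := Subgroup.normalizer (H0 : Set G) with hN0
  have hQn : H0 ≤ Subgroup.normalizer (Q : Set G) := Subgroup.le_normalizer_of_normal
  have hGN : ∀ g : G, ∃ n ∈ Q, ∃ m ∈ N0, g = n * m := by
    intro g
    set K := H0.map (MulAut.conj g).toMonoidHom with hK
    have hKle : K ≤ H0 ⊔ Q := hM0eq ▸ fun x hx => by
      obtain ⟨h, hh, rfl⟩ := hx
      exact (inferInstance : M0.Normal).conj_mem h (hH0le hh) g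
    obtain ⟨n, hn, hnK⟩ := CfsgLib.Core.exists_conj_eq_of_coprime hQn hKle
      (Subgroup.card_map_of_injective (MulAut.conj g).injective) hcopH0 (Or.inl (by haveI := hQ2.isNilpotent; infer_instance))
    refine ⟨n, hn, n⁻¹ * g, ?_, (mul_inv_cancel_left n g).symm⟩
    rw [hN0, Subgroup.mem_normalizer_iff]
    intro h
    have key : h ∈ H0 ↔ g * h * g⁻¹ ∈ MulAut.conj n • H0 := by
      rw [hnK]
      constructor
      · exact fun hh => ⟨h, hh, rfl⟩
      · rintro ⟨h', hh', he⟩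
        exact (MulAut.conj g).injective he ▸ hh'
    rw [key, Subgroup.mem_pointwise_smul_iff_inv_smul_mem, ← map_inv, MulAut.smul_def, MulAut.conj_apply]
    simp [mul_assoc]
  have hN0disj : ∀ x ∈ Q, x ∈ N0 → ∀ h ∈ H0, x * h = h * x := by
    intro x hx hxN h hh
    have h1 : x * h * x⁻¹ * h⁻¹ ∈ H0 := mul_mem ((Subgroup.mem_normalizer_iff.mp hxN h).mp hh) (inv_mem hh)
    have h2 : x * h * x⁻¹ * h⁻¹ ∈ Q := by
      rw [mul_assoc x, mul_assoc x]
      exact mul_mem hx ((inferInstance : Q.Normal).conj_mem _ (inv_mem hx) h)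
    have h3 := hdisj _ h1 h2
    rw [mul_inv_eq_one] at h3
    exact mul_inv_eq_iff_eq_mul.mp h3
  by_cases hall : ∀ h ∈ H0, ∀ e ∈ E, h * e = e * h
  swap
  · -- `H0` fixes no involution
    have hnone : ∀ e ∈ E, (∀ h ∈ H0, h * e = e * h) → e = 1 := by
      intro e he hfix
      by_contra he1
      refine hall fun h hh f hf => ?_
      by_cases hf1 : f = 1
      · subst hf1; simp
      obtain ⟨g, hg⟩ := isConj_iff.mp (hconj e f he1 he hf1 hf)
      obtain ⟨n, hn, m, hm, rfl⟩ := hGN g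
      have hf' : f = m * e * m⁻¹ := by
        have h1 : m * e * m⁻¹ ∈ E := hEn.conj_mem e he m
        rw [← hg, show n * m * e * (n * m)⁻¹ = n * (m * e * m⁻¹) * n⁻¹ by group, hQE n hn _ h1,
          mul_inv_cancel_right]
      have h2 : m⁻¹ * h * m ∈ H0 := by
        have := (Subgroup.mem_normalizer_iff.mp (inv_mem hm) h).mp hh
        simpa using this
      rw [hf']
      calc h * (m * e * m⁻¹) = m * ((m⁻¹ * h * m) * e) * m⁻¹ := by group
        _ = m * e * m⁻¹ * h := by rw [hfix _ h2]; group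
    have hNQ : ∀ x ∈ Q, x ∈ N0 → x = 1 := by
      intro x hx hxN
      by_contra hx1
      obtain ⟨k, hk⟩ := hQ2 ⟨x, hx⟩
      have hk' : x ^ 2 ^ k = 1 := congrArg Subtype.val hk
      obtain ⟨i, hi, hi'⟩ : ∃ i, (x ^ 2 ^ i) ^ 2 = 1 ∧ x ^ 2 ^ i ≠ 1 := by
        by_contra hno
        push Not at hno
        have : ∀ i, x ^ 2 ^ (k - i) = 1 := by
          intro i
          induction i with
          | zero => rw [Nat.sub_zero, hk']
          | succ i ih =>
            rcases Nat.lt_or_ge i k with h | h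
            · refine hno _ ?_
              rw [← pow_mul, ← pow_succ, show k - (i + 1) + 1 = k - i by omega]; exact ih
            · rwa [show k - (i + 1) = k - i by omega]
        exact hx1 (by simpa using this k)
      exact hi' (hnone _ hi fun h hh => ((Commute.pow_left (hN0disj x hx hxN h hh) _).symm).eq)
    let f : N0 →* G ⧸ Q := π.comp N0.subtype
    have hf : Function.Bijective f := by
      refine ⟨(injective_iff_map_eq_one f).mpr fun x hx => Subtype.ext
        (hNQ _ ((QuotientGroup.eq_one_iff _).mp hx) x.2), fun c => ?_⟩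
      obtain ⟨g, rfl⟩ := QuotientGroup.mk'_surjective Q c
      obtain ⟨n, hn, m, hm, rfl⟩ := hGN g
      refine ⟨⟨m, hm⟩, ?_⟩
      show π m = π (n * m)
      rw [map_mul, show π n = 1 from (QuotientGroup.eq_one_iff _).mpr hn, one_mul]
    obtain ⟨t, ht⟩ := exists_prime_orderOf_dvd_card' (G := N0) 2 (by
      rw [Nat.card_congr (Equiv.ofBijective f hf), ← Subgroup.index_eq_card]
      exact hev.two_dvd)
    have ht2 : (t : G) ^ 2 = 1 := by
      have := pow_orderOf_eq_one t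
      rw [ht] at this
      exact congrArg Subtype.val this
    have ht1 : t = 1 := Subtype.ext (hNQ _ (hEQ ht2) t.2)
    rw [ht1, orderOf_one] at ht
    omega
  -- `H0` centralises `E`
  set O1 := Cfsg.pCore 2 ((G ⧸ Q) ⧸ O) with hO1
  have hO1ne : O1 ≠ ⊥ := by
    intro h1
    have h3 := CfsgLib.Core.centralizer_pCore_le_of_pPrimeCore_eq_bot (G := (G ⧸ Q) ⧸ O) (p := 2)
      (CfsgLib.Core.pPrimeCore_quotient_pPrimeCore 2 (G ⧸ Q))
    rw [← hO1, h1] at h3
    have htriv : Nat.card ((G ⧸ Q) ⧸ O) = 1 := by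
      have : ∀ x : (G ⧸ Q) ⧸ O, x = 1 := fun x => Subgroup.mem_bot.mp
        (h3 (Subgroup.mem_centralizer_iff.mpr fun y hy => by
          rw [SetLike.mem_coe, Subgroup.mem_bot] at hy
          rw [hy, one_mul, mul_one]))
      exact Nat.card_eq_one_iff_unique.mpr ⟨⟨fun a b => (this a).trans (this b).symm⟩, ⟨1⟩⟩
    have h4 := O.card_eq_card_quotient_mul_card_subgroup
    rw [htriv, one_mul, ← Subgroup.index_eq_card] at h4
    exact absurd ((CfsgLib.Core.coprime_card_pPrimeCore 2 (G ⧸ Q)).symm.eq_one_of_dvd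
      (h4 ▸ hev.two_dvd)) (by norm_num)
  let π2 : G →* (G ⧸ Q) ⧸ O := (QuotientGroup.mk' O).comp π
  set M1 := O1.comap π2 with hM1
  haveI : M1.Normal := Subgroup.Normal.comap inferInstance _
  have hQM1 : Q ≤ M1 := fun q hq => by
    show π2 q ∈ O1
    rw [show π2 q = 1 by
      show (QuotientGroup.mk' O) (π q) = 1
      rw [show π q = 1 from (QuotientGroup.eq_one_iff _).mpr hq, map_one]]
    exact one_mem _
  set W := N0 ⊓ M1 with hW
  obtain ⟨T'⟩ : Nonempty (Sylow 2 W) := inferInstance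
  set T0 := (T' : Subgroup W).map W.subtype with hT0
  have hT02 : IsPGroup 2 T0 := T'.isPGroup'.map _
  have hEN : E ≤ N0 := fun e he => Subgroup.mem_normalizer_iff.mpr fun h => by
    constructor
    · intro hh; rwa [← hall h hh e he, mul_inv_cancel_right]
    · intro hh
      have h1 := hall _ hh e he
      have h2 : e * h * e⁻¹ * e = e * (e * h * e⁻¹) := h1
      have h3 : h = e * h * e⁻¹ := by
        have h4 : e * h = e * (e * h * e⁻¹) := by rw [← h2, inv_mul_cancel_right]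
        exact mul_left_cancel h4
      rw [h3]; exact hh
  have hEW : E ≤ W := le_inf hEN (hEQ.trans hQM1)
  have hET : E ≤ T0 := by
    have hE2g : IsPGroup 2 (E.subgroupOf W) := fun x => ⟨1, Subtype.ext (Subtype.ext x.2)⟩
    have h1 : (T' : Subgroup W) ⊔ E.subgroupOf W = T' :=
      T'.is_maximal' (T'.isPGroup'.to_sup_of_normal_right hE2g) le_sup_left
    intro e he
    exact ⟨⟨e, hEW he⟩, h1 ▸ Subgroup.mem_sup_right (show (⟨e, hEW he⟩ : W) ∈ E.subgroupOf W from he), rfl⟩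
  set B := N0 ⊓ Subgroup.normalizer (T0 : Set G) with hB
  -- `W` is `T0` times a part acting trivially on `E`
  set L := (W ⊓ M0).subgroupOf W with hL
  haveI hLn : L.Normal := ⟨fun n hn g => ⟨(g * n * g⁻¹).2,
    (inferInstance : M0.Normal).conj_mem _ hn.2 (g : G)⟩⟩
  have hL2 : IsPGroup 2 (W ⧸ L) := by
    intro c
    induction c using QuotientGroup.induction_on with
    | H w =>
      obtain ⟨k, hk⟩ := CfsgLib.Core.isPGroup_pCore 2 ((G ⧸ Q) ⧸ O) ⟨π2 (w : G), w.2.2⟩
      refine ⟨k, ?_⟩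
      rw [← QuotientGroup.mk_pow, QuotientGroup.eq_one_iff]
      refine ⟨(w ^ 2 ^ k).2, ?_⟩
      show π ((w : G) ^ 2 ^ k) ∈ O
      rw [← QuotientGroup.eq_one_iff (N := O)]
      have h5 := congrArg Subtype.val hk
      simp only [Subgroup.coe_pow, Subgroup.coe_one] at h5
      rw [← map_pow] at h5
      exact h5
  have hWeq : ∀ w ∈ W, ∃ t ∈ T0, ∃ l ∈ W ⊓ M0, w = t * l := by
    intro w hw
    have htop : (T' : Subgroup W) ⊔ L = ⊤ := by
      rw [← Subgroup.index_eq_one]
      have h1 : ((T' : Subgroup W) ⊔ L).index ∣ (T' : Subgroup W).index :=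
        Subgroup.index_dvd_of_le le_sup_left
      have h2 : ((T' : Subgroup W) ⊔ L).index ∣ L.index := Subgroup.index_dvd_of_le le_sup_right
      obtain ⟨k, hk⟩ := IsPGroup.iff_card.mp hL2
      rw [← Subgroup.index_eq_card] at hk
      rw [hk] at h2
      exact Nat.eq_one_of_dvd_coprimes
        ((Nat.prime_two.coprime_iff_not_dvd.mpr T'.not_dvd_index).symm.pow_right k) h1 h2
    obtain ⟨t, ht, l, hl, hw'⟩ := Subgroup.mem_sup_of_normal_right.mp
      (htop ▸ Subgroup.mem_top (⟨w, hw⟩ : W) : (⟨w, hw⟩ : W) ∈ (T' : Subgroup W) ⊔ L)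
    exact ⟨t, Subgroup.mem_map_of_mem _ ht, l, hl, (congrArg Subtype.val hw').symm⟩
  have hLE : ∀ l ∈ W ⊓ M0, ∀ e ∈ E, l * e = e * l := by
    rintro l ⟨hlW, hlM⟩ e he
    rw [hM0eq] at hlM
    obtain ⟨h, hh, q, hq, rfl⟩ := Subgroup.mem_sup_of_normal_right.mp hlM
    calc h * q * e = h * (q * e) := mul_assoc _ _ _
      _ = h * e * q := by rw [hQE q hq e he, mul_assoc]
      _ = e * (h * q) := by rw [hall h hh e he, mul_assoc]
  have hTW : T0 ≤ W := Subgroup.map_subtype_le _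
  have htrans : ∀ e ∈ E, ∀ f ∈ E, e ≠ 1 → f ≠ 1 → ∃ b ∈ B, b * e * b⁻¹ = f := by
    intro e he f hf he1 hf1
    obtain ⟨g, hg⟩ := isConj_iff.mp (hconj e f he1 he hf1 hf)
    obtain ⟨n, hn, m, hm, rfl⟩ := hGN g
    have hf' : m * e * m⁻¹ = f := by
      have h1 : m * e * m⁻¹ ∈ E := hEn.conj_mem e he m
      rw [← hg, show n * m * e * (n * m)⁻¹ = n * (m * e * m⁻¹) * n⁻¹ by group, hQE n hn _ h1,
        mul_inv_cancel_right]
    -- Frattini argument in `W`
    have hmW : ∀ x, x ∈ W ↔ MulAut.conj m x ∈ W := by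
      intro x
      show x ∈ N0 ∧ x ∈ M1 ↔ MulAut.conj m x ∈ N0 ∧ MulAut.conj m x ∈ M1
      rw [MulAut.conj_apply]
      refine ⟨fun h => ⟨N0.mul_mem (N0.mul_mem hm h.1) (N0.inv_mem hm),
        (inferInstance : M1.Normal).conj_mem x h.2 m⟩, fun h => ⟨?_, ?_⟩⟩
      · have := N0.mul_mem (N0.mul_mem (N0.inv_mem hm) h.1) hm
        simpa [mul_assoc] using this
      · have := (inferInstance : M1.Normal).conj_mem _ h.2 m⁻¹
        simpa [mul_assoc] using this
    let μ := Alperin.restrict (MulAut.conj m) W hmW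
    obtain ⟨w, hw⟩ := MulAction.exists_smul_eq W T' (T'.mapSurjective (f := μ.toMonoidHom) μ.surjective)
    have hb : (w : G)⁻¹ * m ∈ B := by
      refine ⟨N0.mul_mem (N0.inv_mem w.2.1) hm, ?_⟩
      have hle : ∀ x ∈ T0, (w : G)⁻¹ * m * x * ((w : G)⁻¹ * m)⁻¹ ∈ T0 := by
        rintro _ ⟨x, hx, rfl⟩
        have h1 : μ x ∈ ((w • T' : Sylow 2 W) : Subgroup W) := by
          rw [hw]; exact Subgroup.mem_map_of_mem _ hx
        rw [Sylow.coe_subgroup_smul, Subgroup.mem_pointwise_smul_iff_inv_smul_mem, ← map_inv,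
          MulAut.smul_def, MulAut.conj_apply] at h1
        refine ⟨_, h1, ?_⟩
        simp [μ, Alperin.restrict_apply, mul_assoc]
      refine Subgroup.mem_normalizer_iff.mpr fun x => ⟨hle x, fun hx => ?_⟩
      have hmap : T0.map (MulAut.conj ((w : G)⁻¹ * m)).toMonoidHom = T0 := Subgroup.eq_of_le_of_card_ge
        (by rintro _ ⟨y, hy, rfl⟩; exact hle y hy)
        (le_of_eq (Nat.card_congr (T0.equivMapOfInjective _ (MulAut.conj _).injective).toEquiv))
      rw [← hmap] at hx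
      obtain ⟨y, hy, hyx⟩ := hx
      exact (MulAut.conj ((w : G)⁻¹ * m)).injective hyx ▸ hy
    obtain ⟨t, ht, l, hl, hwt⟩ := hWeq (w : G) w.2
    refine ⟨t * ((w : G)⁻¹ * m), mul_mem ⟨(hTW ht).1, Subgroup.le_normalizer ht⟩ hb, ?_⟩
    set u := (w : G)⁻¹ * m with hu
    have hu1 : u * e * u⁻¹ ∈ E := hEn.conj_mem e he u
    rw [← hf', show m = t * l * u by rw [← hwt, hu, mul_inv_cancel_left],
      show t * l * u * e * (t * l * u)⁻¹ = t * (l * (u * e * u⁻¹) * l⁻¹) * t⁻¹ by group,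
      hLE l hl _ hu1, mul_inv_cancel_right]
    group
  -- a moved core
  let Hr : ℕ → Subgroup G := fun r => H0 ⊓ (Cfsg.pCore r (G ⧸ Q)).comap π
  obtain ⟨r, hr, hmove⟩ : ∃ r : ℕ, r.Prime ∧ ¬ T0 ≤ Subgroup.centralizer (Hr r : Set G) := by
    by_contra hno
    push Not at hno
    have hT0M0 : T0 ≤ M0 := by
      intro t ht
      refine solvable_centralizer_pPrimeCore_le hO2 (CfsgLib.Components.centralizer_fitting_le_of_isSolvable ?_)
      have hle : Cfsg.fittingSubgroup (G ⧸ Q) ≤ Subgroup.centralizer ({π t} : Set (G ⧸ Q)) := by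
        rw [CfsgLib.Core.fittingSubgroup_eq_iSup_pCore]
        refine iSup_le fun r c hc => ?_
        by_cases hr2 : (r : ℕ) = 2
        · rw [hr2, hO2, Subgroup.mem_bot] at hc
          rw [hc]; exact one_mem _
        have hcO : c ∈ O := CfsgLib.Core.pCore_le_pPrimeCore_of_ne Nat.prime_two r.2 hr2 hc
        obtain ⟨x, rfl⟩ := QuotientGroup.mk'_surjective Q c
        have hxM : x ∈ H0 ⊔ Q := hM0eq ▸ (show x ∈ M0 from hcO)
        obtain ⟨h, hh, q, hq, rfl⟩ := Subgroup.mem_sup_of_normal_right.mp hxM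
        have hπ : π (h * q) = π h := by
          rw [map_mul, show π q = 1 from (QuotientGroup.eq_one_iff _).mpr hq, mul_one]
        have hhr : h ∈ Hr r := ⟨hh, show π h ∈ _ from hπ ▸ hc⟩
        rw [Subgroup.mem_centralizer_singleton_iff]
        show π (h * q) * π t = π t * π (h * q)
        rw [hπ, ← map_mul, ← map_mul, Subgroup.mem_centralizer_iff.mp (hno r r.2 ht) h hhr]
      exact Subgroup.mem_centralizer_iff.mpr fun c hc =>
        Subgroup.mem_centralizer_singleton_iff.mp (hle hc)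
    refine hO1ne ?_
    rw [eq_bot_iff]
    intro c hc
    obtain ⟨c', rfl⟩ := QuotientGroup.mk'_surjective O c
    obtain ⟨g, rfl⟩ := QuotientGroup.mk'_surjective Q c'
    obtain ⟨n, hn, m, hm, rfl⟩ := hGN g
    have hmW : m ∈ W := ⟨hm, by
      have : n⁻¹ * (n * m) ∈ M1 := mul_mem (inv_mem (hQM1 hn)) hc
      simpa using this⟩
    obtain ⟨t, ht, l, hl, rfl⟩ := hWeq m hmW
    rw [Subgroup.mem_bot]
    exact (QuotientGroup.eq_one_iff _).mpr (mul_mem (hQM0 hn) (mul_mem (hT0M0 ht) hl.2) : n * (t * l) ∈ M0)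
  haveI : Fact r.Prime := ⟨hr⟩
  have hHrp : IsPGroup r (Hr r) := by
    intro x
    obtain ⟨k, hk⟩ := CfsgLib.Core.isPGroup_pCore r (G ⧸ Q) ⟨π (x : G), x.2.2⟩
    refine ⟨k, Subtype.ext ?_⟩
    have h1 : π ((x : G) ^ r ^ k) = 1 := by
      have h5 := congrArg Subtype.val hk
      simp only [Subgroup.coe_pow, Subgroup.coe_one] at h5
      rw [map_pow]; exact h5
    exact hdisj _ (pow_mem x.2.1 _) ((QuotientGroup.eq_one_iff _).mp h1)
  have hr2 : r ≠ 2 := by
    rintro rfl
    refine hmove fun t _ => Subgroup.mem_centralizer_iff.mpr ?_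
    rintro h ⟨hh, hh'⟩
    have h1 : π h = 1 := by
      have h5 : π h ∈ Cfsg.pCore 2 (G ⧸ Q) := hh'
      rwa [hO2, Subgroup.mem_bot] at h5
    rw [hdisj h hh ((QuotientGroup.eq_one_iff _).mp h1), one_mul, mul_one]
  have hnormH : ∀ g ∈ N0, ∀ h ∈ Hr r, g * h * g⁻¹ ∈ Hr r := fun g hg h hh =>
    ⟨(Subgroup.mem_normalizer_iff.mp hg h).mp hh.1, by
      show π (g * h * g⁻¹) ∈ Cfsg.pCore r (G ⧸ Q)
      rw [map_mul, map_mul, map_inv]
      exact (inferInstance : (Cfsg.pCore r (G ⧸ Q)).Normal).conj_mem _ hh.2 _⟩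
  exact no_config hr2 E Q T0 (Hr r) B (fun e he => he) (fun x hx => hx) hQ2 hT02 hHrp hET hQE
    (fun h hh e he => hall h hh.1 e he) (fun g _ q hq => (inferInstance : Q.Normal).conj_mem q hq g)
    (fun g _ q hq => (inferInstance : Q.Normal).conj_mem q hq g)
    (fun g _ q hq => (inferInstance : Q.Normal).conj_mem q hq g)
    (fun g hg => hnormH g (hTW hg).1) (fun g hg => hnormH g hg.1)
    (fun g hg t ht => (Subgroup.mem_normalizer_iff.mp hg.2 t).mp ht)
    (fun h hh hc => hdisj h hh.1 (hCQ (Subgroup.mem_centralizer_iff.mpr fun q hq => (hc q hq).symm)))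
    hmove htrans ⟨x₀, hx₀2, y₀, hy₀2, hx₀1, hy₀1, hxy⟩

/-- An involution of a quotient by a normal subgroup of odd order lifts to an involution. -/
theorem exists_lift (N : Subgroup G) [N.Normal] (hN : Odd (Nat.card N)) {x : G ⧸ N} (hx : x ^ 2 = 1) :
    ∃ a : G, a ^ 2 = 1 ∧ (a : G ⧸ N) = x := by
  obtain ⟨g, rfl⟩ := QuotientGroup.mk_surjective x
  obtain ⟨i, hi⟩ := hN
  refine ⟨g ^ Nat.card N, ?_, ?_⟩
  · have h1 : g ^ 2 ∈ N := (QuotientGroup.eq_one_iff _).mp (by rw [QuotientGroup.mk_pow, hx])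
    rw [← pow_mul, mul_comm, pow_mul]
    exact congrArg Subtype.val (pow_card_eq_one' (x := (⟨g ^ 2, h1⟩ : N)))
  · rw [QuotientGroup.mk_pow, hi, pow_succ, pow_mul, hx, one_pow, one_mul]

/-- An abelian 2-group with automorphisms transitive on involutions is homocyclic. -/
theorem homocyclic {S : Type*} [CommGroup S] [Finite S] (hS : IsPGroup 2 S)
    (htrans : ∀ x y : S, x ≠ 1 → x ^ 2 = 1 → y ≠ 1 → y ^ 2 = 1 → ∃ a : MulAut S, a x = y) :
    ∃ m r : ℕ, Nonempty (S ≃* (Fin r → Multiplicative (ZMod (2 ^ m)))) := by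
  classical
  obtain ⟨ι, hι, n, hn, ⟨e⟩⟩ := CommGroup.equiv_prod_multiplicative_zmod_of_finite S
  haveI : ∀ i, NeZero (n i) := fun i => ⟨by have := hn i; omega⟩
  let P := (i : ι) → Multiplicative (ZMod (n i))
  let single : (i : ι) → ZMod (n i) → P := fun i a => Function.update 1 i (Multiplicative.ofAdd a)
  have hsi : ∀ i a, single i a i = Multiplicative.ofAdd a := fun i a => Function.update_self _ _ _
  have hso : ∀ i a j, j ≠ i → single i a j = 1 := fun i a j h => Function.update_of_ne h _ _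
  have hpw : ∀ i (a : ZMod (n i)) (k : ℕ), single i a ^ k = single i ((k : ZMod (n i)) * a) := by
    intro i a k
    funext j
    by_cases h : j = i
    · subst h; rw [Pi.pow_apply, hsi, hsi, ← ofAdd_nsmul, nsmul_eq_mul]
    · rw [Pi.pow_apply, hso i a j h, one_pow, hso i _ j h]
  have hne2 : ∀ i, ∃ k, n i = 2 ^ (k + 1) := by
    intro i
    have h1 : n i ∣ Nat.card S := by
      rw [Nat.card_congr e.toEquiv, Nat.card_pi]
      refine Dvd.dvd.trans ?_ (Finset.dvd_prod_of_mem _ (Finset.mem_univ i))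
      rw [Nat.card_congr Multiplicative.toAdd, Nat.card_zmod]
    obtain ⟨k, hk⟩ := IsPGroup.iff_card.mp hS
    obtain ⟨j, -, hj⟩ := (Nat.dvd_prime_pow Nat.prime_two).mp (hk ▸ h1)
    refine ⟨j - 1, ?_⟩
    have := hn i
    rcases j with _ | j
    · simp at hj; omega
    · simpa using hj
  choose k hk using hne2
  let z : (i : ι) → P := fun i => single i ((2 ^ k i : ℕ) : ZMod (n i))
  have hz2 : ∀ i, z i ^ 2 = 1 := fun i => by
    rw [hpw]
    funext j
    by_cases h : j = i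
    · subst h
      rw [hsi, Pi.one_apply, ← Nat.cast_mul, ← pow_succ', ← hk, ZMod.natCast_self, ofAdd_zero]
    · rw [hso i _ j h, Pi.one_apply]
  have hz1 : ∀ i, z i ≠ 1 := fun i h => by
    have h1 := congrFun h i
    simp only [z] at h1
    rw [hsi, Pi.one_apply, ofAdd_eq_one, ZMod.natCast_eq_zero_iff, hk] at h1
    exact absurd (Nat.le_of_dvd (Nat.two_pow_pos _) h1)
      (not_le.mpr (Nat.pow_lt_pow_right one_lt_two (Nat.lt_succ_self _)))
  have hle : ∀ i j, k j ≤ k i := by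
    intro i j
    by_contra hlt
    push Not at hlt
    obtain ⟨a, ha⟩ := htrans (e.symm (z j)) (e.symm (z i))
      (fun h => hz1 j (by simpa using congrArg e h)) (by rw [← map_pow, hz2, map_one])
      (fun h => hz1 i (by simpa using congrArg e h)) (by rw [← map_pow, hz2, map_one])
    have hroot : single j 1 ^ 2 ^ k j = z j := by rw [hpw, mul_one]
    rw [← hroot, map_pow, map_pow] at ha
    have h1 := congrArg e ha
    rw [map_pow, MulEquiv.apply_symm_apply] at h1
    have h2 := congrFun h1 i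
    simp only [z] at h2
    rw [Pi.pow_apply, hsi] at h2
    obtain ⟨d, hd⟩ : 2 ^ (k i + 1) ∣ 2 ^ k j := pow_dvd_pow 2 hlt
    have h3 : ∀ w : Multiplicative (ZMod (n i)), w ^ 2 ^ k j = 1 := fun w => by
      rw [← ofAdd_toAdd w, ← ofAdd_nsmul, hd, ← hk, nsmul_eq_mul, Nat.cast_mul, ZMod.natCast_self,
        zero_mul, zero_mul, ofAdd_zero]
    rw [h3] at h2
    refine hz1 i ?_
    funext l
    by_cases h : l = i
    · subst h; show single l _ l = 1; rw [hsi, ← h2]
    · show single i _ l = 1; exact hso i _ l h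
  obtain ⟨m, hm⟩ : ∃ m, ∀ i, n i = 2 ^ m := by
    rcases isEmpty_or_nonempty ι with h | ⟨⟨i₀⟩⟩
    · exact ⟨0, fun i => (IsEmpty.false i).elim⟩
    · exact ⟨k i₀ + 1, fun i => by rw [hk, le_antisymm (hle i₀ i) (hle i i₀)]⟩
  obtain rfl : n = fun _ => 2 ^ m := funext hm
  exact ⟨m, Fintype.card ι, ⟨e.trans
    (MulEquiv.arrowCongr (Fintype.equivFin ι) (MulEquiv.refl (Multiplicative (ZMod (2 ^ m)))))⟩⟩

end CfsgLib.PGroups.OneClass
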